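import Groth.Prelude.Def_Models
import Mathlib.Analysis.SpecialFunctions.Sqrt
import Mathlib.LinearAlgebra.Span.Defs
import Mathlib.Tactic.Linarith
import Mathlib.Tactic.Ring
import Mathlib.Tactic.FieldSimp

/-! The quadratic form of a numerical type and configurations of `(-2)`-indices. -/

namespace Groth.Agent.NumType

open Models Finset Real

section Matrix

variable {ι : Type*} [Fintype ι] (A : Matrix ι ι ℝ) (m : ι → ℝ)

/-- `xᵀ A x` in terms of `y = x / m`. -/
theorem form_eq (hs : A.IsSymm) (y : ι → ℝ) :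
    ∑ i, ∑ j, A i j * (m i * y i) * (m j * y j)
      = (∑ i, y i ^ 2 * m i * ∑ j, A i j * m j)
        - (1 / 2) * ∑ i, ∑ j, A i j * m i * m j * (y i - y j) ^ 2 := by
  have h : ∑ i, ∑ j, A i j * m i * m j * y j ^ 2 = ∑ i, ∑ j, A i j * m i * m j * y i ^ 2 := by
    rw [Finset.sum_comm]
    exact sum_congr rfl fun i _ => sum_congr rfl fun j _ => by rw [hs.apply i j]; ring
  have h1 : ∑ i, y i ^ 2 * m i * ∑ j, A i j * m j = ∑ i, ∑ j, A i j * m i * m j * y i ^ 2 :=
    sum_congr rfl fun i _ => by rw [mul_sum]; exact sum_congr rfl fun j _ => by ring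
  have h2 : ∑ i, ∑ j, A i j * m i * m j * (y i - y j) ^ 2
      = 2 * (∑ i, ∑ j, A i j * m i * m j * y i ^ 2)
        - 2 * ∑ i, ∑ j, A i j * (m i * y i) * (m j * y j) := by
    conv_rhs => rw [two_mul (∑ i, ∑ j, A i j * m i * m j * y i ^ 2)]
    nth_rw 2 [← h]
    simp only [mul_sum, ← sum_add_distrib, ← sum_sub_distrib]
    exact sum_congr rfl fun i _ => sum_congr rfl fun j _ => by ring
  rw [h1, h2]; ring

variable {A m}

theorem form_nonpos (hs : A.IsSymm) (hA : ∀ i j, i ≠ j → 0 ≤ A i j) (hm : ∀ i, 0 < m i)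
    (hle : ∀ i, ∑ j, A i j * m j ≤ 0) (y : ι → ℝ) :
    ∑ i, ∑ j, A i j * (m i * y i) * (m j * y j) ≤ 0 ∧
    (∑ i, ∑ j, A i j * (m i * y i) * (m j * y j) = 0 →
      (∀ i, y i ≠ 0 → ∑ j, A i j * m j = 0) ∧ ∀ i j, A i j ≠ 0 → y i = y j) := by
  have ha : ∀ i, y i ^ 2 * m i * ∑ j, A i j * m j ≤ 0 := fun i =>
    mul_nonpos_of_nonneg_of_nonpos (mul_nonneg (sq_nonneg _) (hm i).le) (hle i)
  have hb : ∀ i j, 0 ≤ A i j * m i * m j * (y i - y j) ^ 2 := fun i j => by
    rcases eq_or_ne i j with rfl | h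
    · simp
    · have := hA i j h; have := hm i; have := hm j; positivity
  have hA' : ∑ i, y i ^ 2 * m i * ∑ j, A i j * m j ≤ 0 := sum_nonpos fun i _ => ha i
  have hB : 0 ≤ ∑ i, ∑ j, A i j * m i * m j * (y i - y j) ^ 2 :=
    sum_nonneg fun i _ => sum_nonneg fun j _ => hb i j
  rw [form_eq A m hs]
  refine ⟨by linarith, fun h => ?_⟩
  have h1 : ∑ i, y i ^ 2 * m i * ∑ j, A i j * m j = 0 := by linarith
  have h2 : ∑ i, ∑ j, A i j * m i * m j * (y i - y j) ^ 2 = 0 := by linarith
  refine ⟨fun i hi => ?_, fun i j hij => ?_⟩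
  · have := (sum_eq_zero_iff_of_nonpos fun i _ => ha i).1 h1 i (mem_univ _)
    simpa [hi, (hm i).ne'] using this
  · have h3 := (sum_eq_zero_iff_of_nonneg fun i _ => sum_nonneg fun j _ => hb i j).1 h2 i (mem_univ _)
    have h4 := (sum_eq_zero_iff_of_nonneg fun j _ => hb i j).1 h3 j (mem_univ _)
    simpa [hij, (hm i).ne', (hm j).ne', sub_eq_zero] using h4

/-- A vector killed by a connected matrix is, up to `m`, constant. -/
theorem const_of_connected [DecidableEq ι]
    (hconn : ∀ I : Finset ι, I.Nonempty → I ≠ univ → ∃ i ∈ I, ∃ j ∉ I, A i j ≠ 0)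
    (y : ι → ℝ) (hy : ∀ i j, A i j ≠ 0 → y i = y j) (i₀ i : ι) : y i = y i₀ := by
  classical
  by_contra hne
  let I := univ.filter fun j => y j = y i₀
  obtain ⟨a, ha, b, hb, hab⟩ := hconn I ⟨i₀, by simp [I]⟩ fun h => hne (by
    have := h ▸ mem_univ i
    simpa [I] using this)
  exact hb (by simpa [I, ← hy a b hab] using ha)

end Matrix

variable {n : ℕ} (T : NumericalType n)

/-- The intersection matrix over the reals. -/
noncomputable def aR : Matrix (Fin n) (Fin n) ℝ := fun i j => (T.a i j : ℝ)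

theorem aR_symm : (aR T).IsSymm := by
  ext i j; simp [aR, T.symm.apply i j]

theorem aR_mul_m (i : Fin n) : ∑ j, aR T i j * (T.m j : ℝ) = 0 := by
  have := congrFun T.mulVec_m i
  simp only [Matrix.mulVec, dotProduct, Pi.zero_apply] at this
  simp only [aR]; exact_mod_cast this

/-- The form is negative definite on every proper set of indices. -/
theorem form_neg (x : Fin n → ℝ) (h0 : ∃ i, x i = 0) (hx : x ≠ 0) :
    ∑ i, ∑ j, (T.a i j : ℝ) * x i * x j < 0 := by
  have hm : ∀ i, (0 : ℝ) < T.m i := fun i => by exact_mod_cast T.m_pos i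
  set y : Fin n → ℝ := fun i => x i / T.m i
  have hxy : ∀ i, x i = T.m i * y i := fun i => by simp [y, mul_div_cancel₀ _ (hm i).ne']
  have := form_nonpos (aR_symm T) (fun i j h => by simpa [aR] using T.offDiag_nonneg i j h) hm
    (fun i => (aR_mul_m T i).le) y
  simp only [aR, ← hxy] at this
  refine lt_of_le_of_ne this.1 fun h => hx ?_
  obtain ⟨i₀, h0⟩ := h0
  funext i
  have hconn : ∀ I : Finset (Fin n), I.Nonempty → I ≠ univ →
      ∃ i ∈ I, ∃ j ∉ I, (T.a i j : ℝ) ≠ 0 := fun I h1 h2 => by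
    simpa using T.connected I h1 h2
  rw [hxy i, const_of_connected hconn y (this.2 h).2 i₀ i]
  simp [y, h0]

/-- The normalised intersection numbers. -/
noncomputable def r (i j : Fin n) : ℝ := (T.a i j : ℝ) / (√(T.w i) * √(T.w j))

theorem sqrt_w_pos (i : Fin n) : 0 < √(T.w i : ℝ) := Real.sqrt_pos.2 (by exact_mod_cast T.w_pos i)

theorem r_symm (i j : Fin n) : r T i j = r T j i := by
  rw [r, r, T.symm.apply j i, mul_comm]

theorem r_nonneg {i j : Fin n} (h : i ≠ j) : 0 ≤ r T i j :=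
  div_nonneg (by exact_mod_cast T.offDiag_nonneg i j h) (by positivity)

theorem r_self {i : Fin n} (h : T.IsMinusTwo i) : r T i i = -2 := by
  have := sqrt_w_pos T i
  rw [r, h.2, Real.mul_self_sqrt (by exact_mod_cast (T.w_pos i).le)]
  have : (T.w i : ℝ) ≠ 0 := by exact_mod_cast (T.w_pos i).ne'
  push_cast; field_simp

theorem r_form_neg (d : Fin n → ℝ) (h0 : ∃ i, d i = 0) (hd : d ≠ 0) :
    ∑ i, ∑ j, r T i j * d i * d j < 0 := by
  have := form_neg T (fun i => d i / √(T.w i)) (h0.imp fun i h => by simp [h]) fun h => hd (by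
    funext i
    have := congrFun h i
    simpa [(sqrt_w_pos T i).ne'] using this)
  convert this using 1
  refine sum_congr rfl fun i _ => sum_congr rfl fun j _ => ?_
  have := (sqrt_w_pos T i).ne'; have := (sqrt_w_pos T j).ne'
  rw [r]; field_simp

/-- `i`, `j` are joined by a simple edge. -/
def Simple (i j : Fin n) : Prop := T.w i = T.w j ∧ T.a i j = T.w i

/-- `i`, `j` are joined by a double edge, `j` being the heavy end. -/
def Double (i j : Fin n) : Prop := T.w j = 2 * T.w i ∧ T.a i j = T.w j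

variable {T}

theorem Simple.symm {i j : Fin n} (h : Simple T i j) : Simple T j i :=
  ⟨h.1.symm, by rw [← T.symm.apply j i, h.2, h.1]⟩

theorem edge_pos {i j : Fin n} (hij : i ≠ j) (h : T.a i j ≠ 0) : 0 < T.a i j :=
  lt_of_le_of_ne (T.offDiag_nonneg i j hij) (Ne.symm h)

theorem edge_cases {i j : Fin n} (hij : i ≠ j) (h : T.a i j ≠ 0) :
    Simple T i j ∨ ((Double T i j ∨ Double T j i) ∧ √2 ≤ r T i j) ∨ √3 ≤ r T i j := by
  obtain ⟨p, hp⟩ := T.w_dvd i j
  obtain ⟨q, hq⟩ := T.w_dvd j i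
  rw [T.symm.apply i j] at hq
  have hpos := edge_pos hij h
  have hwi := T.w_pos i; have hwj := T.w_pos j
  have p1 : 1 ≤ p := by nlinarith
  have q1 : 1 ≤ q := by nlinarith
  have hr : ∀ k : ℝ, k ≤ (p * q : ℤ) → √k ≤ r T i j := by
    intro k hk
    have h1 := sqrt_w_pos T i; have h2 := sqrt_w_pos T j
    rw [Real.sqrt_le_iff]
    refine ⟨r_nonneg T hij, hk.trans (le_of_eq ?_)⟩
    rw [r, div_pow, mul_pow, Real.sq_sqrt (by exact_mod_cast hwi.le),
      Real.sq_sqrt (by exact_mod_cast hwj.le), eq_div_iff (by positivity)]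
    have : (p * q) * (T.w i * T.w j) = T.a i j ^ 2 := by
      calc (p * q) * (T.w i * T.w j) = (T.w i * p) * (T.w j * q) := by ring
        _ = _ := by rw [← hp, ← hq]; ring
    exact_mod_cast this
  rcases Int.lt_or_le (p * q) 3 with h3 | h3
  · have : p = 1 ∧ q = 1 ∨ p = 1 ∧ q = 2 ∨ p = 2 ∧ q = 1 := by
      have : p ≤ 2 := by nlinarith
      have : q ≤ 2 := by nlinarith
      interval_cases p <;> interval_cases q <;> simp_all
    rcases this with ⟨rfl, rfl⟩ | ⟨rfl, rfl⟩ | ⟨rfl, rfl⟩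
    · left; exact ⟨by linarith, by linarith⟩
    · refine Or.inr (Or.inl ⟨Or.inr ⟨by linarith, by rw [T.symm.apply i j]; linarith⟩, hr 2 (by norm_num)⟩)
    · refine Or.inr (Or.inl ⟨Or.inl ⟨by linarith, by linarith⟩, hr 2 (by norm_num)⟩)
  · exact Or.inr (Or.inr (hr 3 (by exact_mod_cast h3)))

theorem not_simple_le {i j : Fin n} (hij : i ≠ j) (h : T.a i j ≠ 0) (hs : ¬ Simple T i j) :
    √2 ≤ r T i j := by
  rcases edge_cases hij h with h1 | h1 | h1
  · exact absurd h1 hs
  · exact h1.2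
  · exact (Real.sqrt_le_sqrt (by norm_num)).trans h1

theorem one_le_r {i j : Fin n} (hij : i ≠ j) (h : T.a i j ≠ 0) : 1 ≤ r T i j := by
  rcases edge_cases hij h with h1 | h1 | h1
  · rw [r, h1.2, ← h1.1, Real.mul_self_sqrt (by exact_mod_cast (T.w_pos i).le),
      div_self (by exact_mod_cast (T.w_pos i).ne')]
  · exact (Real.one_le_sqrt.2 (by norm_num)).trans h1.2
  · exact (Real.one_le_sqrt.2 (by norm_num)).trans h1

theorem sqrt_two_le {i j : Fin n} (hij : i ≠ j) (h : Double T i j ∨ Double T j i) :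
    √2 ≤ r T i j := by
  have hwi := T.w_pos i; have hwj := T.w_pos j
  rcases h with h | h
  · exact not_simple_le hij (by rw [h.2]; exact hwj.ne') fun hs => by linarith [h.1, hs.1]
  · refine not_simple_le hij ?_ fun hs => by linarith [h.1, hs.1]
    rw [← T.symm.apply i j, h.2]; exact hwi.ne'

/-- A null vector supported on a proper set of `(-2)`-indices is impossible. -/
theorem null_contra {p : ℕ} (v : Fin p ↪ Fin n) (hp : p < n) (hv : ∀ j, T.IsMinusTwo (v j))
    (d : Fin p → ℝ) (hd : ∀ j, 0 ≤ d j) (hd0 : d ≠ 0)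
    (hrow : ∀ j, 0 < d j → ∃ S : Finset (Fin p), j ∉ S ∧
      2 * d j ≤ ∑ k ∈ S, r T (v j) (v k) * d k) : False := by
  classical
  let x : Fin n → ℝ := Function.extend v d 0
  have hx : ∀ j, x (v j) = d j := fun j => v.injective.extend_apply d 0 j
  have hx' : ∀ i, (¬ ∃ j, v j = i) → x i = 0 := fun i hi => Function.extend_apply' _ _ _ hi
  have hsum : ∀ f : Fin n → ℝ, (∀ i, (¬ ∃ j, v j = i) → f i = 0) → ∑ i, f i = ∑ j, f (v j) := by
    intro f hf
    rw [← sum_map univ v f]
    exact (sum_subset (subset_univ _) fun i _ hi => hf i (by simpa using hi)).symm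
  obtain ⟨i₀, hi₀⟩ : ∃ i, ¬ ∃ j, v j = i := by
    by_contra h
    push Not at h
    exact absurd (Fintype.card_le_of_surjective _ h) (by simpa using hp)
  have := r_form_neg T x ⟨i₀, hx' _ hi₀⟩ fun h => hd0 (funext fun j => by simp [← hx, h])
  rw [hsum _ fun i hi => by simp [hx' i hi]] at this
  refine absurd this (not_lt.2 (sum_nonneg fun j _ => ?_))
  rw [hsum _ fun i hi => by simp [hx' i hi]]
  simp only [hx]
  rcases (hd j).eq_or_lt with h | h
  · simp [← h]
  obtain ⟨S, hjS, hS⟩ := hrow j h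
  have e : ∀ k, r T (v j) (v k) * d j * d k = d j * (r T (v j) (v k) * d k) := fun k => by ring
  simp only [e, ← mul_sum]
  refine mul_nonneg h.le ?_
  rw [← add_sum_erase univ _ (mem_univ j), r_self T (hv j)]
  have : ∑ k ∈ S, r T (v j) (v k) * d k ≤ ∑ k ∈ univ.erase j, r T (v j) (v k) * d k := by
    refine sum_le_sum_of_subset_of_nonneg (fun k hk => mem_erase.2 ⟨ne_of_mem_of_not_mem hk hjS, mem_univ _⟩)
      fun k hk _ => mul_nonneg (r_nonneg T (v.injective.ne (mem_erase.1 hk).1.symm)) (hd k)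
  linarith

/-- A tree of edges on a proper set of `(-2)`-indices admits no further edge. -/
theorem tree_zero {p : ℕ} (v : Fin p ↪ Fin n) (hp : p < n) (hv : ∀ j, T.IsMinusTwo (v j))
    (π : Fin p → Fin p) (root : Fin p) (h2 : ∀ j, j ≠ root → π (π j) ≠ j)
    (hπ : ∀ j, j ≠ root → π j ≠ j ∧ T.a (v j) (v (π j)) ≠ 0) (hroot : π root = root)
    {x y : Fin p} (hxy : x ≠ y) (hx : π x ≠ y) (hy : π y ≠ x) : T.a (v x) (v y) = 0 := by
  classical
  by_contra hne
  let e : Fin p → Fin p → ℝ := fun j k => if (π j = k ∧ j ≠ k) ∨ (j = x ∧ k = y) then 1 else 0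
  have he : ∀ j k, j ≠ k → e j k + e k j ≤ 1 := by
    intro j k hjk
    simp only [e]
    split_ifs with h h' <;> norm_num
    rcases h with ⟨h, -⟩ | ⟨rfl, rfl⟩ <;> rcases h' with ⟨h', -⟩ | ⟨h3, h4⟩
    · by_cases hj : j = root
      · exact hjk (by rw [← h, hj, hroot])
      · exact h2 j hj (by rw [h, h'])
    · exact hy (by rw [← h4, h, h3])
    · exact hy h'
    · exact hxy h4
  let D : Fin n → ℝ := fun i => if ∃ j, v j = i then 1 else 0
  have hD : ∀ j, D (v j) = 1 := fun j => if_pos ⟨j, rfl⟩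
  have hD' : ∀ i, (¬ ∃ j, v j = i) → D i = 0 := fun i hi => if_neg hi
  have hsum : ∀ f : Fin n → ℝ, (∀ i, (¬ ∃ j, v j = i) → f i = 0) → ∑ i, f i = ∑ j, f (v j) := by
    intro f hf
    rw [← sum_map univ v f]
    exact (sum_subset (subset_univ _) fun i _ hi => hf i (by simpa using hi)).symm
  obtain ⟨i₀, hi₀⟩ : ∃ i, ¬ ∃ j, v j = i := by
    by_contra h
    push Not at h
    exact absurd (Fintype.card_le_of_surjective _ h) (by simpa using hp)
  have := r_form_neg T D ⟨i₀, hD' _ hi₀⟩ fun h => by simpa [hD] using congrFun h (v root)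
  rw [hsum _ fun i hi => by simp [hD' i hi]] at this
  refine absurd this (not_lt.2 ?_)
  have h1 : ∀ j, ∑ i, r T (v j) i * D (v j) * D i = ∑ k, r T (v j) (v k) := fun j => by
    rw [hsum _ fun i hi => by simp [hD' i hi]]; simp [hD]
  simp only [h1]
  have h3 : ∀ j k, (e j k + e k j) * r T (v j) (v k) + (if j = k then -2 else 0)
      ≤ r T (v j) (v k) := by
    intro j k
    rcases eq_or_ne j k with rfl | hjk
    · rw [if_pos rfl, r_self T (hv j)]
      have : e j j = 0 := if_neg (by rintro (⟨-, h⟩ | ⟨rfl, h⟩); exacts [h rfl, hxy h])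
      simp [this]
    · rw [if_neg hjk, add_zero]
      exact mul_le_of_le_one_left (r_nonneg T (v.injective.ne hjk)) (he j k hjk)
  refine le_trans ?_ (sum_le_sum fun j _ => sum_le_sum fun k _ => h3 j k)
  have hcomm : ∑ j, ∑ k, e k j * r T (v j) (v k) = ∑ j, ∑ k, e j k * r T (v j) (v k) := by
    rw [Finset.sum_comm]
    exact sum_congr rfl fun j _ => sum_congr rfl fun k _ => by rw [r_symm T (v k)]
  simp only [add_mul, sum_add_distrib, hcomm, sum_ite_eq, mem_univ, if_true, sum_const, card_univ,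
    Fintype.card_fin, nsmul_eq_mul]
  suffices (p : ℝ) ≤ ∑ j, ∑ k, e j k * r T (v j) (v k) by linarith
  have hnn : ∀ j k, 0 ≤ e j k * r T (v j) (v k) := by
    intro j k
    rcases eq_or_ne j k with rfl | hjk
    · have : e j j = 0 := if_neg (by rintro (⟨-, h⟩ | ⟨rfl, h⟩); exacts [h rfl, hxy h])
      simp [this]
    · exact mul_nonneg (by simp only [e]; split_ifs <;> norm_num) (r_nonneg T (v.injective.ne hjk))
  let S : Finset (Fin p × Fin p) :=
    insert (x, y) ((univ.erase root).image fun j => (j, π j))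
  have hS : S.card = p := by
    rw [card_insert_of_notMem (by simpa using fun h => hx), card_image_of_injective _
      (fun a b h => (Prod.mk.injEq _ _ _ _ ▸ h).1), card_erase_of_mem (mem_univ _), card_univ,
      Fintype.card_fin]
    have := root.2; omega
  calc (p : ℝ) = ∑ _q ∈ S, (1 : ℝ) := by simp [hS]
    _ ≤ ∑ q ∈ S, e q.1 q.2 * r T (v q.1) (v q.2) := sum_le_sum fun q hq => by
        simp only [S, mem_insert, mem_image, mem_erase] at hq
        rcases hq with rfl | ⟨j, ⟨hj, -⟩, rfl⟩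
        · rw [show e x y = 1 from if_pos (Or.inr ⟨rfl, rfl⟩), one_mul]
          exact one_le_r (v.injective.ne hxy) hne
        · rw [show e j (π j) = 1 from if_pos (Or.inl ⟨rfl, (hπ j hj).1.symm⟩), one_mul]
          exact one_le_r (v.injective.ne (hπ j hj).1.symm) (hπ j hj).2
    _ ≤ ∑ q : Fin p × Fin p, e q.1 q.2 * r T (v q.1) (v q.2) :=
        sum_le_sum_of_subset_of_nonneg (subset_univ _) fun q _ _ => hnn q.1 q.2
    _ = _ := Fintype.sum_prod_type _

/-- Multiplicity inequality at a `(-2)`-index. -/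
theorem sum_le {i : Fin n} (hi : T.IsMinusTwo i) (S : Finset (Fin n)) (hS : i ∉ S) :
    ∑ k ∈ S, T.a i k * T.m k ≤ T.w i * (2 * T.m i) := by
  have h := congrFun T.mulVec_m i
  simp only [Matrix.mulVec, dotProduct, Pi.zero_apply] at h
  rw [← add_sum_erase univ _ (mem_univ i), hi.2] at h
  have : ∑ k ∈ S, T.a i k * T.m k ≤ ∑ k ∈ univ.erase i, T.a i k * T.m k :=
    sum_le_sum_of_subset_of_nonneg
      (fun k hk => mem_erase.2 ⟨ne_of_mem_of_not_mem hk hS, mem_univ _⟩)
      fun k hk _ => mul_nonneg (T.offDiag_nonneg i k (mem_erase.1 hk).1.symm) (T.m_pos k).le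
  linarith

end Groth.Agent.NumType
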