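import Groth.Agent.NumType.Form
import Mathlib.Data.ZMod.Basic

/-! Diagonal, parity and genus of a numerical type. -/

namespace Groth.Agent.NumType

open Models Finset

variable {n : ℕ} (T : NumericalType n)

theorem row_eq (i : Fin n) : T.a i i * T.m i + ∑ j ∈ univ.erase i, T.a i j * T.m j = 0 := by
  have h := congrFun T.mulVec_m i
  simp only [Matrix.mulVec, dotProduct, Pi.zero_apply] at h
  rwa [← add_sum_erase univ _ (mem_univ i)] at h

theorem exists_nbr (hn : 1 < n) (i : Fin n) : ∃ j, j ≠ i ∧ 0 < T.a i j := by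
  obtain ⟨a, ha, j, hj, h⟩ := T.connected {i} (singleton_nonempty i) fun h => by
    have := congrArg Finset.card h
    simp at this; omega
  rw [mem_singleton] at ha hj; subst ha
  exact ⟨j, hj, lt_of_le_of_ne (T.offDiag_nonneg a j (Ne.symm hj)) h.symm⟩

theorem term_le {i j : Fin n} (h : j ≠ i) : T.a i j * T.m j ≤ ∑ j ∈ univ.erase i, T.a i j * T.m j :=
  single_le_sum (f := fun j => T.a i j * T.m j)
    (fun k hk => mul_nonneg (T.offDiag_nonneg i k (mem_erase.1 hk).1.symm) (T.m_pos k).le)
    (mem_erase.2 ⟨h, mem_univ _⟩)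

theorem diag_nonpos (i : Fin n) : T.a i i ≤ 0 := by
  have h := row_eq T i
  have : 0 ≤ ∑ j ∈ univ.erase i, T.a i j * T.m j := sum_nonneg fun k hk =>
    mul_nonneg (T.offDiag_nonneg i k (mem_erase.1 hk).1.symm) (T.m_pos k).le
  nlinarith [T.m_pos i]

theorem diag_neg (hn : 1 < n) (i : Fin n) : T.a i i < 0 := by
  obtain ⟨j, hj, h⟩ := exists_nbr T hn i
  have := term_le T hj
  have := row_eq T i
  nlinarith [T.m_pos i, T.m_pos j]

theorem two_dvd_sum : (2 : ℤ) ∣ ∑ i, T.m i * T.a i i := by
  rw [← Nat.cast_ofNat, ← ZMod.intCast_zmod_eq_zero_iff_dvd, Int.cast_sum]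
  have sq : ∀ x : ZMod 2, x * x = x := by decide
  have two : ∀ x : ZMod 2, x + x = 0 := by decide
  let f : Fin n × Fin n → ZMod 2 := fun p => T.m p.1 * T.m p.2 * T.a p.1 p.2
  have h0 : ∑ p, f p = 0 := by
    rw [Fintype.sum_prod_type]
    refine sum_eq_zero fun i _ => ?_
    have h := congrFun T.mulVec_m i
    simp only [Matrix.mulVec, dotProduct, Pi.zero_apply] at h
    calc ∑ j, f (i, j) = (T.m i : ZMod 2) * ((∑ j, T.a i j * T.m j : ℤ) : ZMod 2) := by
          rw [Int.cast_sum, mul_sum]
          exact sum_congr rfl fun j _ => by simp only [f]; push_cast; ring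
      _ = 0 := by rw [h, Int.cast_zero, mul_zero]
  rw [← sum_filter_add_sum_filter_not univ (fun p : Fin n × Fin n => p.1 = p.2)] at h0
  have hoff : ∑ p ∈ univ.filter (fun p : Fin n × Fin n => ¬ p.1 = p.2), f p = 0 :=
    sum_involution (fun p _ => p.swap)
      (fun p _ => by
        have : f p.swap = f p := by
          simp only [f, Prod.fst_swap, Prod.snd_swap, T.symm.apply p.1 p.2]; ring
        rw [this, two])
      (fun p hp _ e => (mem_filter.1 hp).2 (congrArg Prod.fst e).symm)
      (fun p hp => mem_filter.2 ⟨mem_univ _, fun e => (mem_filter.1 hp).2 e.symm⟩)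
      fun p _ => p.swap_swap
  rw [hoff, add_zero] at h0
  rw [← h0]
  refine sum_bij (fun i _ => (i, i)) (fun i _ => by simp) (fun a _ b _ e => congrArg Prod.fst e)
    (fun p hp => ⟨p.1, mem_univ _, Prod.ext rfl (mem_filter.1 hp).2⟩) fun i _ => ?_
  simp only [f]; push_cast; rw [sq]

theorem two_genus : 2 * (T.genus - 1) = ∑ i, T.m i * (2 * T.w i * (T.g i - 1) - T.a i i) := by
  obtain ⟨k, hk⟩ := two_dvd_sum T
  have : ∑ i, T.m i * (2 * T.w i * (T.g i - 1) - T.a i i)
      = 2 * (∑ i, T.m i * T.w i * (T.g i - 1)) - ∑ i, T.m i * T.a i i := by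
    rw [mul_sum, ← sum_sub_distrib]
    exact sum_congr rfl fun i _ => by ring
  rw [this, NumericalType.genus, hk, Int.mul_ediv_cancel_left _ (two_ne_zero)]
  ring

theorem contrib_cases (hn : 1 < n) (i : Fin n) :
    T.IsMinusOne i ∨ (T.IsMinusTwo i) ∨ 0 < T.m i * (2 * T.w i * (T.g i - 1) - T.a i i) := by
  have hd := diag_neg T hn i
  obtain ⟨k, hk⟩ := T.w_dvd i i
  have hw := T.w_pos i
  rcases (T.g_nonneg i).eq_or_lt with hg | hg
  · rcases (show k ≤ -3 ∨ k = -2 ∨ k = -1 by
      have : k < 0 := by nlinarith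
      omega) with h | h | h
    · right; right; exact mul_pos (T.m_pos i) (by rw [← hg, hk]; nlinarith)
    · right; left; exact ⟨hg.symm, by rw [hk, h]; ring⟩
    · left; exact ⟨hg.symm, by rw [hk, h]; ring⟩
  · right; right; exact mul_pos (T.m_pos i) (by nlinarith)

theorem contrib_nonneg (hmin : T.IsMinimal) (hn : 1 < n) (i : Fin n) :
    0 ≤ T.m i * (2 * T.w i * (T.g i - 1) - T.a i i) := by
  rcases contrib_cases T hn i with h | h | h
  · exact absurd h (hmin i)
  · rw [h.1, h.2]; ring_nf; rfl
  · exact h.le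

theorem one_le_genus (hmin : T.IsMinimal) (hn : 1 < n) : 1 ≤ T.genus := by
  have := two_genus T
  have : 0 ≤ ∑ i, T.m i * (2 * T.w i * (T.g i - 1) - T.a i i) :=
    sum_nonneg fun i _ => contrib_nonneg T hmin hn i
  omega

theorem all_minusTwo (hmin : T.IsMinimal) (hn : 1 < n) (hg : T.genus = 1) (i : Fin n) :
    T.IsMinusTwo i := by
  have h := two_genus T
  rw [hg, sub_self, mul_zero] at h
  have := (sum_eq_zero_iff_of_nonneg fun i _ => contrib_nonneg T hmin hn i).1 h.symm i (mem_univ _)
  rcases contrib_cases T hn i with h' | h' | h'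
  · exact absurd h' (hmin i)
  · exact h'
  · omega

theorem singleton_vals (T : NumericalType 1) :
    T.a 0 0 = 0 ∧ T.genus = 1 + T.m 0 * T.w 0 * (T.g 0 - 1) := by
  have h := row_eq T 0
  rw [show (univ : Finset (Fin 1)).erase 0 = ∅ from rfl, sum_empty, add_zero, mul_eq_zero] at h
  have h0 : T.a 0 0 = 0 := h.resolve_right (T.m_pos 0).ne'
  exact ⟨h0, by simp [NumericalType.genus, h0]⟩

/-- The neighbours of `i` within `S`. -/
def nbrs (S : Finset (Fin n)) (i : Fin n) : Finset (Fin n) :=
  S.filter fun j => j ≠ i ∧ 0 < T.a i j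

/-- `2 (edges - vertices)` of the graph induced on `S`. -/
def excess (S : Finset (Fin n)) : ℤ := ∑ i ∈ S, (((nbrs T S i).card : ℤ) - 2)

theorem exists_core (S : Finset (Fin n)) :
    ∃ C : Finset (Fin n), excess T S ≤ excess T C ∧ ∀ i ∈ C, 2 ≤ (nbrs T C i).card := by
  induction S using Finset.strongInduction with
  | H S ih =>
    by_cases h : ∀ i ∈ S, 2 ≤ (nbrs T S i).card
    · exact ⟨S, le_rfl, h⟩
    push Not at h
    obtain ⟨i, hi, hi1⟩ := h
    obtain ⟨C, hC, hC'⟩ := ih (S.erase i) (erase_ssubset hi)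
    refine ⟨C, le_trans ?_ hC, hC'⟩
    have key : ∀ j ∈ S.erase i, ((nbrs T S j).card : ℤ)
        = (nbrs T (S.erase i) j).card + if i ∈ nbrs T S j then 1 else 0 := by
      intro j _
      have e : nbrs T (S.erase i) j = (nbrs T S j).erase i := by
        ext l; simp [nbrs, and_assoc]
      rw [e]
      split_ifs with hm
      · rw [card_erase_of_mem hm]
        have := card_pos.2 ⟨i, hm⟩
        omega
      · rw [erase_eq_of_notMem hm, add_zero]
    have hind : (∑ j ∈ S.erase i, (if i ∈ nbrs T S j then 1 else 0 : ℤ)) = (nbrs T S i).card := by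
      rw [sum_boole, Nat.cast_inj]
      congr 1
      ext j
      simp only [nbrs, mem_filter, mem_erase, T.symm.apply i j, hi, true_and]
      tauto
    simp only [excess]
    rw [← add_sum_erase S _ hi, sum_congr rfl fun j hj => by rw [key j hj]]
    simp only [sum_sub_distrib, sum_add_distrib, hind, sum_const, nsmul_eq_mul]
    omega

theorem excess_univ : excess T univ = 2 * ((T.edgeCount : ℤ) - n) := by
  have hcard : ∑ i, (nbrs T univ i).card = 2 * T.edgeCount := by
    rw [← Finset.card_sigma]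
    let P := univ.filter fun p : Fin n × Fin n => p.1 < p.2 ∧ 0 < T.a p.1 p.2
    let Q := univ.filter fun p : Fin n × Fin n => p.2 < p.1 ∧ 0 < T.a p.1 p.2
    have hQ : Q.card = P.card := card_bij (fun p _ => p.swap)
      (fun p hp => by simpa [P, Q, T.symm.apply p.1 p.2] using hp)
      (fun a _ b _ e => Prod.swap_injective e)
      (fun p hp => ⟨p.swap, by simpa [P, Q, T.symm.apply p.1 p.2] using hp, p.swap_swap⟩)
    have : (univ.sigma fun i => nbrs T univ i).card = (P ∪ Q).card :=
      card_bij (fun p _ => (p.1, p.2))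
        (fun p hp => by
          simp only [mem_sigma, nbrs, mem_filter, mem_univ, true_and] at hp
          simp only [P, Q, mem_union, mem_filter, mem_univ, true_and]
          rcases lt_or_gt_of_ne hp.1 with h | h
          · exact Or.inr ⟨h, hp.2⟩
          · exact Or.inl ⟨h, hp.2⟩)
        (fun a _ b _ e => by
          obtain ⟨e1, e2⟩ := Prod.mk.injEq _ _ _ _ ▸ e
          exact Sigma.ext e1 (heq_of_eq e2))
        (fun p hp => ⟨⟨p.1, p.2⟩, by
          simp only [P, Q, mem_union, mem_filter, mem_univ, true_and] at hp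
          simp only [mem_sigma, nbrs, mem_filter, mem_univ, true_and]
          rcases hp with h | h
          · exact ⟨h.1.ne', h.2⟩
          · exact ⟨h.1.ne, h.2⟩, rfl⟩)
    rw [this, card_union_of_disjoint (disjoint_filter.2 fun p _ h h' => lt_asymm h.1 h'.1), hQ]
    show P.card + P.card = 2 * P.card
    omega
  simp only [excess, sum_sub_distrib, sum_const, nsmul_eq_mul, card_univ, Fintype.card_fin]
  rw [← Nat.cast_sum, hcard]; push_cast; ring

theorem topGenus_le_genus (hmin : T.IsMinimal) (hn : 1 < n) : T.topGenus ≤ T.genus := by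
  obtain ⟨C, hC, hdeg⟩ := exists_core T univ
  rw [excess_univ] at hC
  suffices excess T C ≤ 2 * (T.genus - 1) by rw [NumericalType.topGenus]; omega
  rw [two_genus]
  refine le_trans ?_ (sum_le_sum_of_subset_of_nonneg (subset_univ C)
    fun i _ _ => contrib_nonneg T hmin hn i)
  let M := fun i => T.m i * T.w i
  have hM : ∀ i, 1 ≤ M i := fun i => one_le_mul_of_one_le_of_one_le (T.m_pos i) (T.w_pos i)
  calc excess T C ≤ ∑ i ∈ C, (((nbrs T C i).card : ℤ) - 2) * M i :=
        sum_le_sum fun i hi => le_mul_of_one_le_right (by have := hdeg i hi; omega) (hM i)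
    _ = ∑ i ∈ C, ((∑ j ∈ nbrs T C i, M i) - 2 * M i) := sum_congr rfl fun i _ => by
        rw [sum_const, nsmul_eq_mul]; ring
    _ = ∑ i ∈ C, ((∑ j ∈ nbrs T C i, M j) - 2 * M i) := by
        simp only [sum_sub_distrib, nbrs, sum_filter]
        congr 1
        rw [Finset.sum_comm]
        exact sum_congr rfl fun i _ => sum_congr rfl fun j _ => by
          simp only [T.symm.apply i j, ne_comm]
    _ ≤ ∑ i ∈ C, T.m i * (2 * T.w i * (T.g i - 1) - T.a i i) := sum_le_sum fun i _ => by
        have h1 : ∑ j ∈ nbrs T C i, M j ≤ ∑ j ∈ univ.erase i, T.a i j * T.m j := by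
          refine le_trans (sum_le_sum fun j hj => ?_)
            (sum_le_sum_of_subset_of_nonneg (fun j hj => mem_erase.2 ⟨(mem_filter.1 hj).2.1, mem_univ _⟩)
              fun k hk _ => mul_nonneg (T.offDiag_nonneg i k (mem_erase.1 hk).1.symm) (T.m_pos k).le)
          have hpos := (mem_filter.1 hj).2.2
          have : T.w j ≤ T.a i j :=
            Int.le_of_dvd hpos (by rw [← T.symm.apply i j]; exact T.w_dvd j i)
          simp only [M]; nlinarith [T.m_pos j]
        have h2 := row_eq T i
        have h3 : 0 ≤ T.m i * T.w i * T.g i :=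
          mul_nonneg (mul_nonneg (T.m_pos i).le (T.w_pos i).le) (T.g_nonneg i)
        have h4 : T.m i * (2 * T.w i * (T.g i - 1) - T.a i i)
            = 2 * (T.m i * T.w i * T.g i) - 2 * (T.m i * T.w i) - T.a i i * T.m i := by ring
        simp only [M] at h1 ⊢
        rw [h4]; linarith

end Groth.Agent.NumType
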