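import Groth.Agent.NumType.Class

/-! Tools for applying the classification. -/

namespace Groth.Agent.NumType

open Models Finset Real

variable {n : ℕ} {T : NumericalType n}

theorem null_contra_tree {p : ℕ} (v : Fin p ↪ Fin n) (hp : p < n) (hv : ∀ j, T.IsMinusTwo (v j))
    (d : Fin p → ℕ) (π : Fin p → Fin p) (hd : ∃ j, d j ≠ 0)
    (hrow : ∀ j, 2 * d j ≤ ∑ k ∈ univ.filter (fun k => k ≠ j ∧ (π j = k ∨ π k = j)), d k)
    (hedge : ∀ j, π j = j ∨ T.a (v j) (v (π j)) ≠ 0) : False := by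
  refine null_contra v hp hv (fun j => (d j : ℝ)) (fun j => Nat.cast_nonneg _)
    (fun h => hd.elim fun j hj => hj (by simpa using congrFun h j)) fun j _ =>
    ⟨univ.filter (fun k => k ≠ j ∧ (π j = k ∨ π k = j)), by simp, ?_⟩
  refine le_trans (b := ∑ k ∈ univ.filter (fun k => k ≠ j ∧ (π j = k ∨ π k = j)), (d k : ℝ))
    (by exact_mod_cast hrow j) (sum_le_sum fun k hk => ?_)
  obtain ⟨-, hkj, h⟩ := mem_filter.1 hk
  refine le_mul_of_one_le_left (Nat.cast_nonneg _) (one_le_r (v.injective.ne hkj.symm) ?_)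
  rcases h with h | h
  · subst h; exact (hedge j).resolve_left hkj
  · subst h; rw [T.symm.apply]; exact (hedge k).resolve_left hkj.symm

theorem fork_of {p : ℕ} (v : Fin p ↪ Fin n) (hp : p < n) (hv : ∀ j, T.IsMinusTwo (v j)) (t : ℕ)
    (ht : 3 ≤ t) (σ : Fin (t + 1) → Fin p) (hσ : Function.Injective σ)
    (hedge : ∀ a : Fin (t + 1), (a : ℕ) + 1 < t → T.a (v (σ a)) (v (σ (a + 1))) ≠ 0)
    (hbr : T.a (v (σ (Fin.ofNat (t + 1) (t - 2)))) (v (σ (Fin.last t))) ≠ 0) :
    IsFork T (fun a => v (σ (Fin.ofNat (t + 1) a))) t where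
  three := ht
  inj a b ha hb e := by
    have := congrArg Fin.val (hσ (v.injective e))
    simp only [Fin.val_ofNat] at this
    rwa [Nat.mod_eq_of_lt ha, Nat.mod_eq_of_lt hb] at this
  lt := lt_of_le_of_lt (by simpa using Fintype.card_le_of_injective σ hσ) hp
  two a _ := hv _
  edge a ha := by
    have := hedge (Fin.ofNat (t + 1) a) (by simp [Nat.mod_eq_of_lt (show a < t + 1 by omega)]; omega)
    convert this using 5
    ext; simp [Fin.val_add]
  branch := by
    convert hbr using 5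
    ext; simp

theorem le_one {i k : Fin n} (hi : T.IsMinusTwo i) (hik : i ≠ k) {c : ℤ}
    (h : T.a i k = c * T.w i) : c * T.m k ≤ 2 * T.m i := by
  have := sum_le hi {k} (by simpa using hik)
  rw [sum_singleton, h] at this
  nlinarith [T.w_pos i]

theorem le_two {i k l : Fin n} (hi : T.IsMinusTwo i) (hik : i ≠ k) (hil : i ≠ l) (hkl : k ≠ l)
    {c e : ℤ} (h : T.a i k = c * T.w i) (h' : T.a i l = e * T.w i) :
    c * T.m k + e * T.m l ≤ 2 * T.m i := by
  have := sum_le hi {k, l} (by simp [hik, hil])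
  rw [sum_pair hkl, h, h'] at this
  nlinarith [T.w_pos i]

theorem le_three {i k l o : Fin n} (hi : T.IsMinusTwo i) (hik : i ≠ k) (hil : i ≠ l) (hio : i ≠ o)
    (hkl : k ≠ l) (hko : k ≠ o) (hlo : l ≠ o) {c e f : ℤ} (h : T.a i k = c * T.w i)
    (h' : T.a i l = e * T.w i) (h'' : T.a i o = f * T.w i) :
    c * T.m k + e * T.m l + f * T.m o ≤ 2 * T.m i := by
  have := sum_le hi {k, l, o} (by simp [hik, hil, hio])
  rw [sum_insert (by simp [hkl, hko]), sum_pair hlo, h, h', h''] at this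
  nlinarith [T.w_pos i]

/-- All weights equal along simple edges. -/
theorem simple_val {i k : Fin n} {w : ℤ} (h : Simple T i k) (hw : T.w i = w) :
    T.w k = w ∧ T.a i k = w ∧ T.a i k = 1 * T.w i ∧ T.a k i = 1 * T.w k :=
  ⟨h.1 ▸ hw, h.2.trans hw, by rw [one_mul, h.2], by rw [one_mul, h.symm.2]⟩

theorem sne {i j : Fin n} (h : T.a i j ≠ 0) : T.a j i ≠ 0 := by rwa [T.symm.apply]

theorem pne {i j : Fin n} (h : 0 < T.a i j) : T.a i j ≠ 0 := h.ne'

end Groth.Agent.NumType
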