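import Groth.Agent.NumType.Apply

/-! Normal forms of chains and of pairs. -/

namespace Groth.Agent.NumType

open Models Finset Real

variable {n : ℕ} {T : NumericalType n} {u : ℕ → Fin n} {t : ℕ}

theorem chain_normal (h : IsChain T u t) (ht : 3 ≤ t) :
    ∃ u', (u' = u ∨ u' = fun a => u (t - 1 - a)) ∧ IsChain T u' t ∧
      ((∀ a, a + 1 < t → Simple T (u' a) (u' (a + 1))) ∨
        ((∀ a, a + 2 < t → Simple T (u' a) (u' (a + 1))) ∧ Double T (u' (t - 2)) (u' (t - 1))) ∨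
        ((∀ a, a + 2 < t → Simple T (u' a) (u' (a + 1))) ∧ Double T (u' (t - 1)) (u' (t - 2))) ∨
        (t = 4 ∧ Simple T (u' 0) (u' 1) ∧ Double T (u' 1) (u' 2) ∧ Simple T (u' 2) (u' 3))) := by
  rcases h.cases_of ht with h1 | ⟨k, hk, hd, hs, h1⟩
  · exact ⟨u, Or.inl rfl, h, Or.inl h1⟩
  rcases h1 with rfl | h1 | ⟨rfl, rfl⟩
  · refine ⟨_, Or.inr rfl, h.rev, ?_⟩
    have hs' : ∀ a, a + 2 < t → Simple T (u (t - 1 - a)) (u (t - 1 - (a + 1))) := fun a ha => by
      have := (hs (t - 1 - (a + 1)) (by omega) (by omega)).symm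
      rwa [show t - 1 - (a + 1) + 1 = t - 1 - a by omega] at this
    have e1 : t - 1 - (t - 2) = 1 := by omega
    rcases hd with hd | hd
    · exact Or.inr (Or.inr (Or.inl ⟨hs', by rw [Nat.sub_self, e1]; exact hd⟩))
    · exact Or.inr (Or.inl ⟨hs', by rw [Nat.sub_self, e1]; exact hd⟩)
  · refine ⟨u, Or.inl rfl, h, ?_⟩
    obtain rfl : k = t - 2 := by omega
    rw [show t - 2 + 1 = t - 1 by omega] at hd
    rcases hd with hd | hd
    · exact Or.inr (Or.inl ⟨fun a ha => hs a (by omega) (by omega), hd⟩)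
    · exact Or.inr (Or.inr (Or.inl ⟨fun a ha => hs a (by omega) (by omega), hd⟩))
  · rcases hd with hd | hd
    · exact ⟨u, Or.inl rfl, h, Or.inr (Or.inr (Or.inr ⟨rfl, hs 0 (by omega) (by omega), hd,
        hs 2 (by omega) (by omega)⟩))⟩
    · exact ⟨_, Or.inr rfl, h.rev, Or.inr (Or.inr (Or.inr ⟨rfl, (hs 2 (by omega) (by omega)).symm,
        hd, (hs 0 (by omega) (by omega)).symm⟩))⟩

/-- The values along a chain which is simple except possibly for its last edge. -/
theorem chain_values (h : IsChain T u t) (hs : ∀ a, a + 2 < t → Simple T (u a) (u (a + 1))) :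
    (∀ a, a + 1 < t → T.w (u a) = T.w (u 0)) ∧
    (∀ a, a + 2 < t → T.a (u a) (u (a + 1)) = T.w (u 0)) := by
  have hw : ∀ a, a + 1 < t → T.w (u a) = T.w (u 0) := fun a ha =>
    h.w_eq (l := 0) (s := t - 2) (by omega) (fun b _ hb => hs b (by omega)) a (Nat.zero_le _)
      (by omega)
  exact ⟨hw, fun a ha => (hs a ha).2.trans (hw a (by omega))⟩

theorem pair_cases {i j : Fin n} (hn : 2 < n) (hij : i ≠ j) (hi : T.IsMinusTwo i)
    (hj : T.IsMinusTwo j) (h : T.a i j ≠ 0) :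
    ∃ p q : ℤ, 1 ≤ p ∧ 1 ≤ q ∧ p * q < 4 ∧ T.a i j = p * T.w i ∧ T.a i j = q * T.w j := by
  obtain ⟨p, hp⟩ := T.w_dvd i j
  obtain ⟨q, hq⟩ := T.w_dvd j i
  rw [T.symm.apply i j] at hq
  have hpos := edge_pos hij h
  have hwi := T.w_pos i; have hwj := T.w_pos j
  refine ⟨p, q, by nlinarith, by nlinarith, ?_, by linarith, by linarith⟩
  by_contra hlt
  push Not at hlt
  have hr : 2 ≤ r T i j := by
    have h1 := sqrt_w_pos T i; have h2 := sqrt_w_pos T j
    rw [r, le_div_iff₀ (by positivity), ← Real.sqrt_mul' _ (by exact_mod_cast hwj.le),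
      show (2 : ℝ) = √4 by rw [show (4 : ℝ) = 2 * 2 by norm_num, Real.sqrt_mul_self zero_le_two],
      ← Real.sqrt_mul' _ (mul_nonneg (by exact_mod_cast hwi.le) (by exact_mod_cast hwj.le)),
      Real.sqrt_le_iff]
    refine ⟨by exact_mod_cast hpos.le, ?_⟩
    have : 4 * (T.w i * T.w j) ≤ T.a i j ^ 2 := by
      have : T.a i j ^ 2 = (p * q) * (T.w i * T.w j) := by rw [pow_two]; nth_rw 1 [hp]; rw [hq]; ring
      rw [this]
      exact mul_le_mul_of_nonneg_right hlt (by positivity)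
    exact_mod_cast this
  refine null_contra (T := T) ⟨![i, j], ?_⟩ hn (fun a => ?_) (fun _ => 1) (fun _ => zero_le_one)
    (fun e => one_ne_zero (congrFun e 0)) fun a _ => ⟨{1 - a}, ?_, ?_⟩
  · intro a b e; fin_cases a <;> fin_cases b <;> first | rfl | exact absurd e hij | exact absurd e.symm hij
  · fin_cases a <;> assumption
  · fin_cases a <;> decide
  · rw [sum_singleton]
    fin_cases a
    · show 2 * (1 : ℝ) ≤ r T i j * 1
      linarith
    · show 2 * (1 : ℝ) ≤ r T j i * 1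
      rw [r_symm]; linarith

/-- Extend a tuple to all natural numbers. -/
def extFun {p : ℕ} (v : Fin p → Fin n) (hp : 0 < p) (a : ℕ) : Fin n :=
  if h : a < p then v ⟨a, h⟩ else v ⟨0, hp⟩

theorem extFun_apply {p : ℕ} (v : Fin p → Fin n) (hp : 0 < p) (j : Fin p) :
    extFun v hp j = v j := dif_pos j.2

theorem extFun_eq {p : ℕ} (v : Fin p → Fin n) (hp : 0 < p) {a : ℕ} (h : a < p) :
    extFun v hp a = v ⟨a, h⟩ := dif_pos h

theorem chain_of {p : ℕ} (v : Fin p ↪ Fin n) (hp0 : 0 < p) (hp : p < n)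
    (hv : ∀ j, T.IsMinusTwo (v j))
    (hedge : ∀ j j' : Fin p, j'.val = j.val + 1 → T.a (v j) (v j') ≠ 0) :
    IsChain T (extFun v hp0) p where
  inj a b ha hb e := by
    rw [extFun_eq _ _ ha, extFun_eq _ _ hb] at e
    exact congrArg Fin.val (v.injective e)
  lt := hp
  two a ha := by rw [extFun_eq _ _ ha]; exact hv _
  edge a ha := by
    rw [extFun_eq _ _ (show a < p by omega), extFun_eq _ _ ha]; exact hedge _ _ rfl

theorem chain_rev_apply {p : ℕ} (v : Fin p → Fin n) (hp0 : 0 < p) (j : Fin p) :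
    extFun v hp0 (p - 1 - j) = v (Fin.rev j) := by
  rw [extFun_eq _ _ (show p - 1 - (j : ℕ) < p by omega)]
  congr 1; ext; simp [Fin.rev]; omega

theorem le_chain_start (h : IsChain T u t) {a : ℕ} (ha : a + 1 < t) {c : ℤ}
    (e : T.a (u a) (u (a + 1)) = c * T.w (u a)) : c * T.m (u (a + 1)) ≤ 2 * T.m (u a) :=
  le_one (h.two a (by omega)) (h.ne (by omega) ha (by omega)) e

theorem le_chain_end (h : IsChain T u t) {a : ℕ} (ha : a + 1 < t) {c : ℤ}
    (e : T.a (u a) (u (a + 1)) = c * T.w (u (a + 1))) : c * T.m (u a) ≤ 2 * T.m (u (a + 1)) :=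
  le_one (h.two _ ha) (h.ne ha (by omega) (by omega)) (by rw [T.symm.apply]; exact e)

theorem le_chain_mid (h : IsChain T u t) {a : ℕ} (ha : a + 2 < t) {c e : ℤ}
    (h1 : T.a (u a) (u (a + 1)) = c * T.w (u (a + 1)))
    (h2 : T.a (u (a + 1)) (u (a + 2)) = e * T.w (u (a + 1))) :
    c * T.m (u a) + e * T.m (u (a + 2)) ≤ 2 * T.m (u (a + 1)) :=
  le_two (h.two _ (by omega)) (h.ne (by omega) (by omega) (by omega))
    (h.ne (by omega) ha (by omega)) (h.ne (by omega) ha (by omega))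
    (by rw [T.symm.apply]; exact h1) h2

end Groth.Agent.NumType
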