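import Groth.Agent.NumType.Form

/-! Chains and forks of `(-2)`-indices. -/

namespace Groth.Agent.NumType

open Models Finset Real

variable {n : ℕ} (T : NumericalType n)

/-- A chain `u 0, …, u (t-1)` of `(-2)`-indices. -/
structure IsChain (u : ℕ → Fin n) (t : ℕ) : Prop where
  inj : ∀ a b, a < t → b < t → u a = u b → a = b
  lt : t < n
  two : ∀ a < t, T.IsMinusTwo (u a)
  edge : ∀ a, a + 1 < t → T.a (u a) (u (a + 1)) ≠ 0

/-- A chain with a further index `u t` attached to `u (t-2)`. -/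
structure IsFork (u : ℕ → Fin n) (t : ℕ) : Prop where
  three : 3 ≤ t
  inj : ∀ a b, a < t + 1 → b < t + 1 → u a = u b → a = b
  lt : t + 1 < n
  two : ∀ a < t + 1, T.IsMinusTwo (u a)
  edge : ∀ a, a + 1 < t → T.a (u a) (u (a + 1)) ≠ 0
  branch : T.a (u (t - 2)) (u t) ≠ 0

variable {T} {u : ℕ → Fin n} {t : ℕ}

/-- The indices as an embedding. -/
def natEmb (u : ℕ → Fin n) (t : ℕ) (h : ∀ a b, a < t → b < t → u a = u b → a = b) :
    Fin t ↪ Fin n :=
  ⟨fun j => u j, fun a b e => Fin.ext (h a b a.2 b.2 e)⟩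

theorem null_contra_nat (h : ∀ a b, a < t → b < t → u a = u b → a = b) (ht : t < n)
    (hv : ∀ a < t, T.IsMinusTwo (u a)) (d : ℕ → ℝ) (hd : ∀ a < t, 0 ≤ d a)
    (hd0 : ∃ a < t, d a ≠ 0)
    (hrow : ∀ a < t, d a ≠ 0 → ∃ S : Finset ℕ, (∀ b ∈ S, b < t ∧ b ≠ a) ∧
      2 * d a ≤ ∑ b ∈ S, r T (u a) (u b) * d b) : False := by
  obtain ⟨a₀, ha₀, hd0⟩ := hd0
  refine null_contra (natEmb u t h) ht (fun j => hv j j.2) (fun j => d j) (fun j => hd j j.2)
    (fun e => hd0 (congrFun e ⟨a₀, ha₀⟩)) fun j hj => ?_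
  obtain ⟨S, hS, hle⟩ := hrow j j.2 hj.ne'
  refine ⟨univ.filter fun k : Fin t => (k : ℕ) ∈ S,
    fun hj' => (hS j (mem_filter.1 hj').2).2 rfl, hle.trans (le_of_eq ?_)⟩
  exact (sum_bij (s := univ.filter fun k : Fin t => (k : ℕ) ∈ S) (fun k _ => (k : ℕ))
    (fun k hk => (mem_filter.1 hk).2) (fun a _ b _ e => Fin.ext e)
    (fun b hb => ⟨⟨b, (hS b hb).1⟩, mem_filter.2 ⟨mem_univ _, hb⟩, rfl⟩) fun k _ => rfl).symm

theorem le_one_nbr {a b : ℕ} {d : ℕ → ℝ} (hb : b < t ∧ b ≠ a) {c : ℝ}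
    (hc : c ≤ r T (u a) (u b)) (hd : 0 ≤ d b) (h : 2 * d a ≤ c * d b) :
    ∃ S : Finset ℕ, (∀ b ∈ S, b < t ∧ b ≠ a) ∧ 2 * d a ≤ ∑ b ∈ S, r T (u a) (u b) * d b :=
  ⟨{b}, by simpa using hb, by rw [sum_singleton]; exact h.trans (mul_le_mul_of_nonneg_right hc hd)⟩

theorem le_two_nbr {a b b' : ℕ} {d : ℕ → ℝ} (hb : b < t ∧ b ≠ a) (hb' : b' < t ∧ b' ≠ a)
    (hbb : b ≠ b') {c c' : ℝ} (hc : c ≤ r T (u a) (u b)) (hc' : c' ≤ r T (u a) (u b'))
    (hd : 0 ≤ d b) (hd' : 0 ≤ d b') (h : 2 * d a ≤ c * d b + c' * d b') :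
    ∃ S : Finset ℕ, (∀ b ∈ S, b < t ∧ b ≠ a) ∧ 2 * d a ≤ ∑ b ∈ S, r T (u a) (u b) * d b :=
  ⟨{b, b'}, by simp [hb, hb'], by
    rw [sum_pair hbb]
    exact h.trans (add_le_add (mul_le_mul_of_nonneg_right hc hd) (mul_le_mul_of_nonneg_right hc' hd'))⟩

theorem le_three_nbr {a b b' b'' : ℕ} {d : ℕ → ℝ} (hb : b < t ∧ b ≠ a) (hb' : b' < t ∧ b' ≠ a)
    (hb'' : b'' < t ∧ b'' ≠ a)
    (hbb : b ≠ b') (hbb' : b ≠ b'') (hbb'' : b' ≠ b'') {c c' c'' : ℝ} (hc : c ≤ r T (u a) (u b))
    (hc' : c' ≤ r T (u a) (u b')) (hc'' : c'' ≤ r T (u a) (u b''))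
    (hd : 0 ≤ d b) (hd' : 0 ≤ d b') (hd'' : 0 ≤ d b'')
    (h : 2 * d a ≤ c * d b + c' * d b' + c'' * d b'') :
    ∃ S : Finset ℕ, (∀ b ∈ S, b < t ∧ b ≠ a) ∧ 2 * d a ≤ ∑ b ∈ S, r T (u a) (u b) * d b :=
  ⟨{b, b', b''}, by simp [hb, hb', hb''], by
    rw [sum_insert (by simp [hbb, hbb']), sum_pair hbb'', ← add_assoc]
    exact h.trans (add_le_add (add_le_add (mul_le_mul_of_nonneg_right hc hd)
      (mul_le_mul_of_nonneg_right hc' hd')) (mul_le_mul_of_nonneg_right hc'' hd''))⟩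

namespace IsChain

variable (h : IsChain T u t)
include h

theorem ne {a b : ℕ} (ha : a < t) (hb : b < t) (hab : a ≠ b) : u a ≠ u b :=
  fun e => hab (h.inj a b ha hb e)

theorem one_le (a : ℕ) (ha : a + 1 < t) :
    1 ≤ r T (u a) (u (a + 1)) ∧ 1 ≤ r T (u (a + 1)) (u a) := by
  have := one_le_r (h.ne (by omega) ha (by omega)) (h.edge a ha)
  exact ⟨this, r_symm T _ _ ▸ this⟩

theorem rev : IsChain T (fun a => u (t - 1 - a)) t where
  inj a b ha hb e := by have := h.inj _ _ (by omega) (by omega) e; omega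
  lt := h.lt
  two a ha := h.two _ (by omega)
  edge a ha := by
    rw [show t - 1 - a = (t - 1 - (a + 1)) + 1 by omega, T.symm.apply]
    exact h.edge _ (by omega)

theorem zero {a b : ℕ} (hab : a + 1 < b) (hb : b < t) : T.a (u a) (u b) = 0 := by
  refine tree_zero (natEmb u t h.inj) h.lt (fun j => h.two j j.2)
    (fun j => if hj : (j : ℕ) + 1 < t then ⟨j + 1, hj⟩ else j) ⟨t - 1, by omega⟩ ?_ ?_ ?_
    (x := ⟨a, by omega⟩) (y := ⟨b, hb⟩) (by simp [Fin.ext_iff]; omega) ?_ ?_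
  · intro j hj e
    have hj' : (j : ℕ) + 1 < t := by
      have := j.2; simp [Fin.ext_iff] at hj; omega
    simp only [hj', dif_pos] at e
    split_ifs at e with h2 <;> simp [Fin.ext_iff] at e
    omega
  · intro j hj
    have hj' : (j : ℕ) + 1 < t := by
      have := j.2; simp [Fin.ext_iff] at hj; omega
    simp only [hj', dif_pos]
    exact ⟨by simp [Fin.ext_iff], h.edge j hj'⟩
  · simp only [dite_eq_right_iff]
    intro h2
    exact absurd h2 (by simp; omega)
  · simp only []; split_ifs with h2 <;> simp [Fin.ext_iff] <;> omega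
  · simp only []; split_ifs with h2 <;> simp [Fin.ext_iff] <;> omega

theorem no_triple {k : ℕ} (hk : k + 2 < t) (h3 : √3 ≤ r T (u k) (u (k + 1))) : False := by
  let d : ℕ → ℝ := fun j => if j = k then √3 else if j = k + 1 then 2 else if j = k + 2 then 1 else 0
  have h0 : ∀ b, 0 ≤ d b := fun b => by simp only [d]; split_ifs <;> positivity
  refine null_contra_nat h.inj h.lt h.two d (fun a _ => h0 a)
    ⟨k, by omega, by simp [d]⟩ fun a ha hd => ?_
  have s3 := Real.mul_self_sqrt (show (0 : ℝ) ≤ 3 by norm_num)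
  rcases (show a = k ∨ a = k + 1 ∨ a = k + 2 by
    by_contra hc; push Not at hc; simp [d, hc] at hd) with rfl | rfl | rfl
  · refine le_one_nbr (b := a + 1) ?_ h3 (h0 _) ?_
    · exact ⟨by omega, by omega⟩
    simp [d]; linarith
  · refine le_two_nbr (b := k) (b' := k + 2) ?_ ?_ (by omega)
      (r_symm T (u k) _ ▸ h3) (h.one_le (k + 1) (by omega)).1 (h0 _) (h0 _) ?_
    · exact ⟨by omega, by omega⟩
    · exact ⟨by omega, by omega⟩
    simp [d]; linarith
  · refine le_one_nbr (b := k + 1) ?_ (h.one_le (k + 1) (by omega)).2 (h0 _) ?_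
    · exact ⟨by omega, by omega⟩
    simp [d]

theorem double {k : ℕ} (ht : 3 ≤ t) (hk : k + 1 < t) (hs : ¬ Simple T (u k) (u (k + 1))) :
    Double T (u k) (u (k + 1)) ∨ Double T (u (k + 1)) (u k) := by
  rcases edge_cases (h.ne (by omega) hk (by omega)) (h.edge k hk) with h1 | h1 | h1
  · exact absurd h1 hs
  · exact h1.1
  · rcases (show k + 2 < t ∨ k + 2 = t by omega) with h2 | h2
    · exact (h.no_triple h2 h1).elim
    · refine (h.rev.no_triple (k := 0) (by omega) ?_).elim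
      rw [show t - 1 - 0 = k + 1 by omega, show t - 1 - (0 + 1) = k by omega, r_symm]
      exact h1

theorem two_double {k l : ℕ} (hkl : k < l) (hl : l + 1 < t)
    (hk' : ¬ Simple T (u k) (u (k + 1))) (hl' : ¬ Simple T (u l) (u (l + 1))) : False := by
  let d : ℕ → ℝ := fun j => if j = k ∨ j = l + 1 then 1 else if k < j ∧ j ≤ l then √2 else 0
  have h0 : ∀ b, 0 ≤ d b := fun b => by simp only [d]; split_ifs <;> positivity
  refine null_contra_nat h.inj h.lt h.two d (fun a _ => h0 a) ⟨k, by omega, by simp [d]⟩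
    fun a ha hd => ?_
  have rk := not_simple_le (h.ne (by omega) (by omega) (by omega)) (h.edge k (by omega)) hk'
  have rl := not_simple_le (h.ne (by omega) (by omega) (by omega)) (h.edge l hl) hl'
  have s2 := Real.mul_self_sqrt (show (0 : ℝ) ≤ 2 by norm_num)
  have hmid : ∀ j, k < j → j ≤ l → d j = √2 := fun j h1 h2 => by
    simp only [d]; rw [if_neg (by omega), if_pos ⟨h1, h2⟩]
  have hk1 : d k = 1 := if_pos (Or.inl rfl)
  have hl1 : d (l + 1) = 1 := if_pos (Or.inr rfl)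
  rcases (show a = k ∨ (k < a ∧ a ≤ l) ∨ a = l + 1 by
    by_contra hc; push Not at hc
    exact hd (by simp only [d]; rw [if_neg (by omega), if_neg (by omega)])) with rfl | ⟨h1, h2⟩ | rfl
  · exact le_one_nbr (b := a + 1) ⟨by omega, by omega⟩ rk (h0 _)
      (by rw [hk1, hmid _ (by omega) (by omega)]; linarith)
  · have e1 : ∃ c, c ≤ r T (u a) (u (a - 1)) ∧ c * d (a - 1) = √2 := by
      rcases (show a = k + 1 ∨ k + 1 < a by omega) with rfl | h3
      · exact ⟨√2, r_symm T (u k) _ ▸ rk, by rw [Nat.add_sub_cancel, hk1, mul_one]⟩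
      · refine ⟨1, ?_, by rw [hmid _ (by omega) (by omega), one_mul]⟩
        have := (h.one_le (a - 1) (by omega)).2
        rwa [show a - 1 + 1 = a by omega] at this
    have e2 : ∃ c, c ≤ r T (u a) (u (a + 1)) ∧ c * d (a + 1) = √2 := by
      rcases (show a = l ∨ a < l by omega) with rfl | h3
      · exact ⟨√2, rl, by rw [hl1, mul_one]⟩
      · exact ⟨1, (h.one_le a (by omega)).1, by rw [hmid _ (by omega) (by omega), one_mul]⟩
    obtain ⟨c, hc, hc'⟩ := e1; obtain ⟨c', hd1, hd2⟩ := e2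
    exact le_two_nbr ⟨by omega, by omega⟩ ⟨by omega, by omega⟩ (by omega) hc hd1 (h0 _) (h0 _)
      (by rw [hmid a h1 h2, hc', hd2]; linarith)
  · exact le_one_nbr (b := l) ⟨by omega, by omega⟩ (r_symm T (u l) _ ▸ rl) (h0 _)
      (by rw [hl1, hmid _ hkl le_rfl]; linarith)

theorem no_interior {k : ℕ} (hk : 2 ≤ k) (hk2 : k + 2 < t) (hk' : ¬ Simple T (u k) (u (k + 1))) :
    False := by
  obtain ⟨i, rfl⟩ : ∃ i, k = i + 2 := ⟨k - 2, by omega⟩
  let d : ℕ → ℝ := fun j => if j = i then 1 else if j = i + 1 then 2 else if j = i + 2 then 3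
    else if j = i + 3 then 2 * √2 else if j = i + 4 then √2 else 0
  have h0 : ∀ b, 0 ≤ d b := fun b => by simp only [d]; split_ifs <;> positivity
  refine null_contra_nat h.inj h.lt h.two d (fun a _ => h0 a) ⟨i, by omega, by simp [d]⟩
    fun a ha hd => ?_
  have rk := not_simple_le (h.ne (by omega) (by omega) (by omega)) (h.edge (i + 2) (by omega)) hk'
  have s2 := Real.mul_self_sqrt (show (0 : ℝ) ≤ 2 by norm_num)
  rcases (show a = i ∨ a = i + 1 ∨ a = i + 2 ∨ a = i + 3 ∨ a = i + 4 by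
    by_contra hc; push Not at hc; simp [d, hc] at hd) with rfl | rfl | rfl | rfl | rfl
  · exact le_one_nbr (b := a + 1) ⟨by omega, by omega⟩ (h.one_le a (by omega)).1 (h0 _)
      (by simp [d])
  · exact le_two_nbr (b := i) (b' := i + 2) ⟨by omega, by omega⟩ ⟨by omega, by omega⟩ (by omega)
      (h.one_le i (by omega)).2 (h.one_le (i + 1) (by omega)).1 (h0 _) (h0 _)
      (by simp [d]; norm_num)
  · exact le_two_nbr (b := i + 1) (b' := i + 3) ⟨by omega, by omega⟩ ⟨by omega, by omega⟩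
      (by omega) (h.one_le (i + 1) (by omega)).2 rk (h0 _) (h0 _) (by simp [d]; linarith)
  · exact le_two_nbr (b := i + 2) (b' := i + 4) ⟨by omega, by omega⟩ ⟨by omega, by omega⟩
      (by omega) (r_symm T (u (i + 2)) _ ▸ rk) (h.one_le (i + 3) (by omega)).1 (h0 _) (h0 _)
      (by simp [d]; linarith)
  · exact le_one_nbr (b := i + 3) ⟨by omega, by omega⟩ (h.one_le (i + 3) (by omega)).2 (h0 _)
      (by simp [d])

/-- The possible chains. -/
theorem cases_of (ht : 3 ≤ t) :
    (∀ a, a + 1 < t → Simple T (u a) (u (a + 1))) ∨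
    ∃ k, k + 1 < t ∧ (Double T (u k) (u (k + 1)) ∨ Double T (u (k + 1)) (u k)) ∧
      (∀ a, a + 1 < t → a ≠ k → Simple T (u a) (u (a + 1))) ∧
      (k = 0 ∨ k + 2 = t ∨ (t = 4 ∧ k = 1)) := by
  by_cases hall : ∀ a, a + 1 < t → Simple T (u a) (u (a + 1))
  · exact Or.inl hall
  push Not at hall
  obtain ⟨k, hk, hk'⟩ := hall
  refine Or.inr ⟨k, hk, h.double ht hk hk', fun a ha hak => ?_, ?_⟩
  · by_contra hs
    rcases Nat.lt_or_gt_of_ne hak with hlt | hlt
    · exact h.two_double hlt hk hs hk'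
    · exact h.two_double hlt ha hk' hs
  · by_contra hc
    push Not at hc
    rcases (show 2 ≤ k ∨ k = 1 by omega) with h2 | rfl
    · exact h.no_interior h2 (by omega) hk'
    · refine h.rev.no_interior (k := t - 3) (by omega) (by omega) fun hs => hk' ?_
      rw [show t - 1 - (t - 3) = 1 + 1 by omega, show t - 1 - (t - 3 + 1) = 1 by omega] at hs
      exact hs.symm

theorem w_eq {l s : ℕ} (hs : s < t)
    (hS : ∀ a, l ≤ a → a < s → Simple T (u a) (u (a + 1))) :
    ∀ a, l ≤ a → a ≤ s → T.w (u a) = T.w (u l) := by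
  intro a hla
  induction a, hla using Nat.le_induction with
  | base => exact fun _ => rfl
  | succ a hla ih => exact fun has => (hS a hla (by omega)).1.symm.trans (ih (by omega))

end IsChain

namespace IsFork

variable (h : IsFork T u t)
include h

theorem chain : IsChain T u t where
  inj a b ha hb := h.inj a b (by omega) (by omega)
  lt := by have := h.lt; omega
  two a ha := h.two a (by omega)
  edge := h.edge

theorem zero {a b : ℕ} (hab : a < b) (hb : b < t + 1) (h1 : ¬ (b = a + 1 ∧ b < t))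
    (h2 : ¬ (a + 2 = t ∧ b = t)) : T.a (u a) (u b) = 0 := by
  have := h.three
  refine tree_zero (natEmb u (t + 1) h.inj) h.lt (fun j => h.two j j.2)
    (fun j => if hj : (j : ℕ) + 1 < t then ⟨j + 1, by omega⟩ else
      if (j : ℕ) = t then ⟨t - 2, by omega⟩ else j) ⟨t - 1, by omega⟩ ?_ ?_ ?_
    (x := ⟨a, by omega⟩) (y := ⟨b, hb⟩) (by simp [Fin.ext_iff]; omega) ?_ ?_
  · intro j hj e
    have := j.2; simp [Fin.ext_iff] at hj
    split_ifs at e <;> simp [Fin.ext_iff] at * <;> omega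
  · intro j hj
    have := j.2; simp [Fin.ext_iff] at hj
    split_ifs with h3 h4
    · exact ⟨by simp [Fin.ext_iff], h.edge j h3⟩
    · refine ⟨by simp [Fin.ext_iff]; omega, ?_⟩
      show T.a (u j) (u (t - 2)) ≠ 0
      rw [h4, T.symm.apply]; exact h.branch
    · omega
  · simp only []
    rw [dif_neg (by omega), if_neg (by omega)]
  · simp only []; split_ifs <;> simp [Fin.ext_iff] <;> omega
  · simp only []; split_ifs <;> simp [Fin.ext_iff] <;> omega

theorem no_double_leaf {x y z : ℕ} (hx : x < t + 1) (hy : y < t + 1) (hz : z < t + 1)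
    (hxy : x ≠ y) (hxz : x ≠ z) (hyz : y ≠ z) (hxc : x ≠ t - 2) (hyc : y ≠ t - 2) (hzc : z ≠ t - 2)
    (ax : T.a (u (t - 2)) (u x) ≠ 0) (ay : T.a (u (t - 2)) (u y) ≠ 0)
    (az : T.a (u (t - 2)) (u z) ≠ 0) : Simple T (u (t - 2)) (u x) := by
  by_contra hs
  have := h.three
  have hne : ∀ j, j < t + 1 → j ≠ t - 2 → u (t - 2) ≠ u j :=
    fun j hj hj' e => hj' (h.inj _ _ (by omega) hj e).symm
  let d : ℕ → ℝ := fun j => if j = t - 2 then 2 else if j = x then √2 else
    if j = y ∨ j = z then 1 else 0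
  have h0 : ∀ b, 0 ≤ d b := fun b => by simp only [d]; split_ifs <;> positivity
  refine null_contra_nat h.inj h.lt h.two d (fun a _ => h0 a) ⟨t - 2, by omega, by simp [d]⟩
    fun a ha hd => ?_
  have rx := not_simple_le (hne x hx hxc) ax hs
  have ry := one_le_r (hne y hy hyc) ay
  have rz := one_le_r (hne z hz hzc) az
  have s2 := Real.mul_self_sqrt (show (0 : ℝ) ≤ 2 by norm_num)
  have dx : d x = √2 := by simp [d, hxc]
  have dy : d y = 1 := by simp [d, hyc, hxy.symm]
  have dz : d z = 1 := by simp [d, hzc, hxz.symm]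
  have dc : d (t - 2) = 2 := by simp [d]
  rcases (show a = t - 2 ∨ a = x ∨ a = y ∨ a = z by
    by_contra hc; push Not at hc; simp [d, hc] at hd) with rfl | rfl | rfl | rfl
  · exact le_three_nbr ⟨hx, hxc⟩ ⟨hy, hyc⟩ ⟨hz, hzc⟩ hxy hxz hyz rx ry rz (h0 _) (h0 _) (h0 _)
      (by rw [dx, dy, dz, dc]; linarith)
  · exact le_one_nbr (b := t - 2) ⟨by omega, hxc.symm⟩ (r_symm T (u (t - 2)) _ ▸ rx) (h0 _)
      (by rw [dx, dc]; linarith)
  · exact le_one_nbr (b := t - 2) ⟨by omega, hyc.symm⟩ (r_symm T (u (t - 2)) _ ▸ ry) (h0 _)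
      (by rw [dy, dc]; linarith)
  · exact le_one_nbr (b := t - 2) ⟨by omega, hzc.symm⟩ (r_symm T (u (t - 2)) _ ▸ rz) (h0 _)
      (by rw [dz, dc]; linarith)

theorem leaves_ne : T.a (u (t - 2)) (u (t - 3)) ≠ 0 ∧ T.a (u (t - 2)) (u (t - 1)) ≠ 0 := by
  have := h.three
  constructor
  · rw [T.symm.apply, show t - 2 = t - 3 + 1 by omega]; exact h.edge _ (by omega)
  · have := h.edge (t - 2) (by omega)
    rwa [show t - 2 + 1 = t - 1 by omega] at this

theorem branch_simple : Simple T (u (t - 2)) (u t) := by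
  have := h.three
  exact h.no_double_leaf (y := t - 3) (z := t - 1) (by omega) (by omega) (by omega) (by omega)
    (by omega) (by omega) (by omega) (by omega) (by omega) h.branch h.leaves_ne.1 h.leaves_ne.2

theorem edge_simple {k : ℕ} (hk : k + 1 < t) : Simple T (u k) (u (k + 1)) := by
  have := h.three
  rcases (show k + 2 = t ∨ k + 3 ≤ t by omega) with h2 | h2
  · have := h.no_double_leaf (x := t - 1) (y := t - 3) (z := t) (by omega) (by omega) (by omega)
      (by omega) (by omega) (by omega) (by omega) (by omega) (by omega) h.leaves_ne.2 h.leaves_ne.1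
      h.branch
    rwa [show t - 2 = k by omega, show t - 1 = k + 1 by omega] at this
  by_contra hs
  let d : ℕ → ℝ := fun j => if j = k then √2 else if k < j ∧ j + 2 ≤ t then 2 else
    if j + 1 = t ∨ j = t then 1 else 0
  have h0 : ∀ b, 0 ≤ d b := fun b => by simp only [d]; split_ifs <;> positivity
  refine null_contra_nat h.inj h.lt h.two d (fun a _ => h0 a) ⟨k, by omega, by simp [d]⟩
    fun a ha hd => ?_
  have hne : u k ≠ u (k + 1) := h.chain.ne (by omega) hk (by omega)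
  have rk := not_simple_le hne (h.edge k hk) hs
  have rb := one_le_r (h.chain.ne (a := t - 2) (b := t - 1) (by omega) (by omega) (by omega))
    h.leaves_ne.2
  have rb' := one_le_r (fun e => absurd (h.inj (t - 2) t (by omega) (by omega) e) (by omega))
    h.branch
  have s2 := Real.mul_self_sqrt (show (0 : ℝ) ≤ 2 by norm_num)
  have hmid : ∀ j, k < j → j + 2 ≤ t → d j = 2 := fun j h1 h3 => by
    simp only [d]; rw [if_neg (by omega), if_pos ⟨h1, h3⟩]
  have hk1 : d k = √2 := if_pos rfl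
  have hl1 : d (t - 1) = 1 := by
    simp only [d]; rw [if_neg (by omega), if_neg (by omega), if_pos (Or.inl (by omega : t - 1 + 1 = t))]
  have hl2 : d t = 1 := by
    simp only [d]; rw [if_neg (by omega), if_neg (by omega), if_pos (Or.inr trivial)]
  rcases (show a = k ∨ (k < a ∧ a + 2 ≤ t) ∨ a + 1 = t ∨ a = t by
    by_contra hc; push Not at hc
    exact hd (by simp only [d]; rw [if_neg (by omega), if_neg (by omega), if_neg (by omega)]))
    with rfl | ⟨h1, h3⟩ | h1 | rfl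
  · exact le_one_nbr (b := a + 1) ⟨by omega, by omega⟩ rk (h0 _)
      (by rw [hk1, hmid _ (by omega) (by omega)]; linarith)
  · have e1 : ∃ c, c ≤ r T (u a) (u (a - 1)) ∧ c * d (a - 1) = 2 := by
      rcases (show a = k + 1 ∨ k + 1 < a by omega) with rfl | h4
      · exact ⟨√2, r_symm T (u k) _ ▸ rk, by rw [Nat.add_sub_cancel, hk1, s2]⟩
      · refine ⟨1, ?_, by rw [hmid _ (by omega) (by omega), one_mul]⟩
        have := (h.chain.one_le (a - 1) (by omega)).2
        rwa [show a - 1 + 1 = a by omega] at this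
    obtain ⟨c, hc, hc'⟩ := e1
    rcases (show a + 2 = t ∨ a + 3 ≤ t by omega) with h4 | h4
    · rw [show t - 2 = a by omega] at rb rb'
      exact le_three_nbr (b' := t - 1) (b'' := t) ⟨by omega, by omega⟩ ⟨by omega, by omega⟩
        ⟨by omega, by omega⟩ (by omega) (by omega) (by omega) hc rb rb' (h0 _) (h0 _) (h0 _)
        (by rw [hmid a h1 h3, hc', hl1, hl2]; norm_num)
    · exact le_two_nbr (b' := a + 1) ⟨by omega, by omega⟩ ⟨by omega, by omega⟩ (by omega) hc
        (h.chain.one_le a (by omega)).1 (h0 _) (h0 _)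
        (by rw [hmid a h1 h3, hmid (a + 1) (by omega) (by omega), hc']; norm_num)
  · obtain rfl : a = t - 1 := by omega
    exact le_one_nbr (b := t - 2) ⟨by omega, by omega⟩ (r_symm T (u (t - 2)) _ ▸ rb) (h0 _)
      (by rw [hl1, hmid _ (by omega) (by omega)]; norm_num)
  · exact le_one_nbr (b := a - 2) ⟨by omega, by omega⟩ (r_symm T (u (a - 2)) _ ▸ rb') (h0 _)
      (by rw [hl2, hmid _ (by omega) (by omega)]; norm_num)

theorem w_eq : ∀ a, a < t + 1 → T.w (u a) = T.w (u 0) := by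
  have := h.three
  have hc : ∀ a, a < t → T.w (u a) = T.w (u 0) := fun a ha =>
    h.chain.w_eq (l := 0) (s := t - 1) (by omega) (fun b _ hb => h.edge_simple (by omega)) a
      (Nat.zero_le _) (by omega)
  intro a ha
  rcases (show a < t ∨ a = t by omega) with h1 | rfl
  · exact hc a h1
  · exact h.branch_simple.1.symm.trans (hc _ (by omega))

end IsFork

end Groth.Agent.NumType
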