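import Groth.Agent.NumType.Genus

/-! Contraction of a `(-1)`-index. -/

namespace Groth.Agent.NumType

open Models Finset Matrix

variable {n : ℕ} (T : NumericalType (n + 1))

local notation "l" => Fin.last n

/-- `a i l / w l`. -/
def pdiv (i : Fin n) : ℤ := T.a i.castSucc l / T.w l

/-- `a i l / w i`. -/
def qdiv (i : Fin n) : ℤ := T.a i.castSucc l / T.w i.castSucc

/-- The new matrix. -/
def ctrA : Matrix (Fin n) (Fin n) ℤ := fun i j =>
  T.a i.castSucc j.castSucc - T.a i.castSucc l * T.a j.castSucc l / T.a l l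

/-- The new weights. -/
def ctrW (i : Fin n) : ℤ :=
  if 2 ∣ T.a i.castSucc l / T.w l ∧ ¬ 2 ∣ T.a i.castSucc l / T.w i.castSucc
  then T.w i.castSucc / 2 else T.w i.castSucc

/-- The new genera. -/
def ctrG (i : Fin n) : ℤ :=
  T.w i.castSucc / ctrW T i * (T.g i.castSucc - 1) + 1 +
    (T.a i.castSucc l ^ 2 - T.w l * T.a i.castSucc l) / (2 * ctrW T i * T.w l)

theorem a_eq_p (i : Fin n) : T.a i.castSucc l = T.w l * pdiv T i :=
  (Int.mul_ediv_cancel' (by rw [← T.symm.apply i.castSucc l]; exact T.w_dvd _ _)).symm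

theorem a_eq_q (i : Fin n) : T.a i.castSucc l = T.w i.castSucc * qdiv T i :=
  (Int.mul_ediv_cancel' (T.w_dvd _ _)).symm

theorem pdiv_nonneg (i : Fin n) : 0 ≤ pdiv T i :=
  Int.ediv_nonneg (T.offDiag_nonneg _ _ i.castSucc_ne_last) (T.w_pos _).le

theorem qdiv_nonneg (i : Fin n) : 0 ≤ qdiv T i :=
  Int.ediv_nonneg (T.offDiag_nonneg _ _ i.castSucc_ne_last) (T.w_pos _).le

theorem ctrW_cases (i : Fin n) :
    (ctrW T i = T.w i.castSucc ∧ 2 ∣ qdiv T i * (pdiv T i - 1)) ∨
    (2 * ctrW T i = T.w i.castSucc ∧ 1 ≤ qdiv T i ∧ 2 ≤ pdiv T i) := by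
  have hp := a_eq_p T i; have hq := a_eq_q T i
  have hp0 := pdiv_nonneg T i; have hq0 := qdiv_nonneg T i
  rw [show ctrW T i = if 2 ∣ pdiv T i ∧ ¬ 2 ∣ qdiv T i
    then T.w i.castSucc / 2 else T.w i.castSucc from rfl]
  by_cases h : 2 ∣ pdiv T i ∧ ¬ 2 ∣ qdiv T i
  · right
    rw [if_pos h]
    have hev : (2 : ℤ) ∣ T.w i.castSucc := by
      have : (2 : ℤ) ∣ T.w i.castSucc * qdiv T i := by rw [← hq, hp]; exact h.1.mul_left _
      rw [← even_iff_two_dvd, Int.even_mul, even_iff_two_dvd, even_iff_two_dvd] at this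
      exact this.resolve_right h.2
    have hq1 : qdiv T i ≠ 0 := fun e => h.2 (e ▸ dvd_zero _)
    have hp1 : pdiv T i ≠ 0 := fun e => hq1 (by
      rw [e, mul_zero] at hp; rw [hp] at hq
      exact (mul_eq_zero.1 hq.symm).resolve_left (T.w_pos _).ne')
    exact ⟨Int.mul_ediv_cancel' hev, by omega, by have := h.1; omega⟩
  · left
    rw [if_neg h]
    refine ⟨rfl, ?_⟩
    rcases not_and_or.1 h with h | h
    · exact Dvd.dvd.mul_left (by omega) _
    · exact (not_not.1 h).mul_right _

theorem ctrW_pos (i : Fin n) : 0 < ctrW T i := by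
  have := T.w_pos i.castSucc
  rcases ctrW_cases T i with h | h <;> omega

/-- The ratio `w i / w' i`. -/
def ratio (i : Fin n) : ℤ := T.w i.castSucc / ctrW T i

theorem ratio_eq (i : Fin n) :
    T.w i.castSucc = ctrW T i * ratio T i ∧ (ratio T i = 1 ∨ ratio T i = 2) := by
  have := ctrW_pos T i
  rcases ctrW_cases T i with ⟨h, -⟩ | ⟨h, -⟩
  · have : ratio T i = 1 := by rw [ratio, h, Int.ediv_self (by omega)]
    exact ⟨by rw [this, h, mul_one], Or.inl this⟩
  · have : ratio T i = 2 := by rw [ratio, ← h, Int.mul_ediv_cancel _ (by omega)]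
    exact ⟨by rw [this, ← h]; ring, Or.inr this⟩

theorem ctrW_dvd (i : Fin n) : ctrW T i ∣ T.w i.castSucc := ⟨_, (ratio_eq T i).1⟩

/-- The exact value of the genus correction. -/
theorem corr_eq (i : Fin n) :
    2 * ctrW T i * ((T.a i.castSucc l ^ 2 - T.w l * T.a i.castSucc l) / (2 * ctrW T i * T.w l))
      = T.a i.castSucc l * (pdiv T i - 1) := by
  have hp := a_eq_p T i; have hq := a_eq_q T i
  have hl := T.w_pos l
  have e : T.a i.castSucc l ^ 2 - T.w l * T.a i.castSucc l
      = T.w l * (T.a i.castSucc l * (pdiv T i - 1)) := by rw [hp]; ring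
  obtain ⟨c, hc⟩ : 2 * ctrW T i ∣ T.a i.castSucc l * (pdiv T i - 1) := by
    rcases ctrW_cases T i with ⟨h, h'⟩ | ⟨h, -⟩
    · obtain ⟨c, hc⟩ := h'
      exact ⟨c, by rw [hq, h, mul_assoc, hc]; ring⟩
    · exact ⟨qdiv T i * (pdiv T i - 1), by rw [hq, ← h]; ring⟩
  have := ctrW_pos T i
  rw [e, hc, show T.w l * (2 * ctrW T i * c) = c * (2 * ctrW T i * T.w l) by ring,
    Int.mul_ediv_cancel _ (by positivity)]

variable {T} (h : T.IsMinusOne (Fin.last n))
include h

theorem ctrA_eq (i j : Fin n) :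
    ctrA T i j = T.a i.castSucc j.castSucc + T.a i.castSucc l * pdiv T j := by
  rw [ctrA, h.2, Int.ediv_neg, a_eq_p T j, show T.a i.castSucc l * (T.w l * pdiv T j)
    = T.a i.castSucc l * pdiv T j * T.w l by ring, Int.mul_ediv_cancel _ (T.w_pos l).ne']
  ring

theorem ctr_n_pos : 0 < n := by
  rcases Nat.eq_zero_or_pos n with rfl | hn
  · have := row_eq T 0
    rw [show (univ : Finset (Fin 1)).erase 0 = ∅ from rfl, sum_empty, add_zero,
      show T.a 0 0 = -T.w 0 from h.2] at this
    nlinarith [T.w_pos 0, T.m_pos 0]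
  · exact hn

omit h in
theorem row_split (T : NumericalType (n + 1)) (i : Fin (n + 1)) :
    ∑ j : Fin n, T.a i j.castSucc * T.m j.castSucc + T.a i l * T.m l = 0 := by
  have := congrFun T.mulVec_m i
  simp only [Matrix.mulVec, dotProduct, Pi.zero_apply, Fin.sum_univ_castSucc] at this
  exact this

omit h in
theorem ctrG_nonneg (T : NumericalType (n + 1)) (i : Fin n) : 0 ≤ ctrG T i := by
  have hc := corr_eq T i
  have hw := ctrW_pos T i
  have hg := T.g_nonneg i.castSucc
  have hp0 := pdiv_nonneg T i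
  obtain ⟨hr, hr'⟩ := ratio_eq T i
  show 0 ≤ ratio T i * (T.g i.castSucc - 1) + 1 + _
  set E := (T.a i.castSucc l ^ 2 - T.w l * T.a i.castSucc l) / (2 * ctrW T i * T.w l)
  have hE : 0 ≤ E := by
    have : 0 ≤ T.a i.castSucc l * (pdiv T i - 1) := by
      rcases (show pdiv T i = 0 ∨ 1 ≤ pdiv T i by omega) with h1 | h1
      · rw [a_eq_p T i, h1]; simp
      · exact mul_nonneg (T.offDiag_nonneg _ _ i.castSucc_ne_last) (by omega)
    nlinarith
  rcases ctrW_cases T i with ⟨h1, -⟩ | ⟨h1, h2, h3⟩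
  · have : ratio T i = 1 := by
      rcases hr' with h4 | h4
      · exact h4
      · rw [h4, h1] at hr; omega
    rw [this]; omega
  · have h4 : ratio T i = 2 := by
      rcases hr' with h4 | h4
      · rw [h4] at hr; omega
      · exact h4
    have : 1 ≤ E := by
      have : 2 * ctrW T i * E = 2 * ctrW T i * (qdiv T i * (pdiv T i - 1)) := by
        rw [hc, a_eq_q T i, ← h1]; ring
      rw [mul_left_cancel₀ (by omega) this]
      exact one_le_mul_of_one_le_of_one_le h2 (by omega)
    rw [h4]; omega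

/-- The contracted numerical type. -/
def contraction : NumericalType n where
  m i := T.m i.castSucc
  a := ctrA T
  w := ctrW T
  g := ctrG T
  pos := ctr_n_pos h
  m_pos i := T.m_pos _
  w_pos := ctrW_pos T
  g_nonneg := ctrG_nonneg T
  symm := by
    ext i j
    simp only [Matrix.transpose_apply, ctrA]
    rw [← T.symm.apply j.castSucc i.castSucc, mul_comm (T.a j.castSucc l)]
  offDiag_nonneg i j hij := by
    rw [ctrA_eq h]
    exact add_nonneg (T.offDiag_nonneg _ _ fun e => hij (Fin.castSucc_injective _ e))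
      (mul_nonneg (T.offDiag_nonneg _ _ i.castSucc_ne_last) (pdiv_nonneg T j))
  connected I hI hI' := by
    by_contra hc
    push Not at hc
    have hz : ∀ i ∈ I, ∀ j ∉ I, T.a i.castSucc j.castSucc = 0 ∧
        (T.a i.castSucc l = 0 ∨ T.a j.castSucc l = 0) := by
      intro i hi j hj
      have h0 := hc i hi j hj
      rw [ctrA_eq h] at h0
      have h1 := T.offDiag_nonneg i.castSucc j.castSucc
        fun e => hj (Fin.castSucc_injective _ e ▸ hi)
      have h2 := mul_nonneg (T.offDiag_nonneg _ _ i.castSucc_ne_last) (pdiv_nonneg T j)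
      refine ⟨by omega, (mul_eq_zero.1 (show T.a i.castSucc l * pdiv T j = 0 by omega)).imp id ?_⟩
      intro e; rw [a_eq_p T j, e, mul_zero]
    by_cases hl : ∃ i ∈ I, T.a i.castSucc l ≠ 0
    · obtain ⟨i₀, hi₀, hl⟩ := hl
      obtain ⟨a, ha, b, hb, hab⟩ := T.connected (insert l (I.map Fin.castSuccEmb)) (insert_nonempty _ _)
        (fun e => by
          obtain ⟨j, hj⟩ : ∃ j, j ∉ I := by
            by_contra hall; push Not at hall; exact hI' (eq_univ_iff_forall.2 hall)
          have := e.symm ▸ mem_univ (j.castSucc)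
          simp only [mem_insert, mem_map, Fin.castSuccEmb_apply] at this
          rcases this with e' | ⟨k, hk, e'⟩
          · exact j.castSucc_ne_last e'
          · exact hj (Fin.castSucc_injective _ e' ▸ hk))
      simp only [mem_insert, mem_map, Fin.castSuccEmb_apply, not_or, not_exists, not_and] at ha hb
      obtain ⟨hb1, hb2⟩ := hb
      obtain ⟨j, rfl⟩ := Fin.exists_castSucc_eq.2 hb1
      have hjI : j ∉ I := fun hj => hb2 j hj rfl
      rcases ha with rfl | ⟨i, hi, rfl⟩
      · exact hab (by rw [← T.symm.apply]; exact (hz i₀ hi₀ j hjI).2.resolve_left hl)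
      · exact hab (hz i hi j hjI).1
    · push Not at hl
      obtain ⟨a, ha, b, hb, hab⟩ := T.connected (I.map Fin.castSuccEmb) (hI.map)
        (fun e => by
          have := e.symm ▸ mem_univ (Fin.last n)
          simp only [mem_map, Fin.castSuccEmb_apply] at this
          obtain ⟨k, -, e'⟩ := this
          exact k.castSucc_ne_last e')
      simp only [mem_map, Fin.castSuccEmb_apply, not_exists, not_and] at ha hb
      obtain ⟨i, hi, rfl⟩ := ha
      rcases Fin.eq_castSucc_or_eq_last b with ⟨j, rfl⟩ | rfl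
      · exact hab (hz i hi j fun hj => hb j hj rfl).1
      · exact hab (hl i hi)
  mulVec_m := by
    funext i
    simp only [Matrix.mulVec, dotProduct, Pi.zero_apply, ctrA_eq h]
    have h1 := row_split T i.castSucc
    have h2 := row_split T l
    rw [h.2] at h2
    have h3 : ∑ j : Fin n, T.a i.castSucc l * pdiv T j * T.m j.castSucc
        = T.a i.castSucc l * T.m l := by
      rw [show T.a i.castSucc l * T.m l = T.a i.castSucc l * (∑ j, pdiv T j * T.m j.castSucc) from ?_,
        mul_sum]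
      · exact sum_congr rfl fun j _ => by ring
      · congr 1
        apply mul_left_cancel₀ (T.w_pos l).ne'
        rw [mul_sum]
        have : ∑ j : Fin n, T.w l * (pdiv T j * T.m j.castSucc)
            = ∑ j : Fin n, T.a l j.castSucc * T.m j.castSucc :=
          sum_congr rfl fun j _ => by rw [← mul_assoc, ← a_eq_p, ← T.symm.apply l j.castSucc]
        rw [this]; linarith
    simp only [add_mul, sum_add_distrib, h3]
    exact h1
  w_dvd i j := by
    rw [ctrA_eq h]
    exact (ctrW_dvd T i).trans (dvd_add (T.w_dvd _ _) ((T.w_dvd _ _).mul_right _))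

theorem isContraction_contraction : T.IsContraction (contraction h) :=
  ⟨fun _ => rfl, fun _ _ => rfl, fun _ => rfl, fun _ => rfl⟩

omit h in
theorem IsContraction.w_eq {T' : NumericalType n} (hT : T.IsContraction T') (i : Fin n) :
    T'.w i = ctrW T i := hT.2.2.1 i

theorem genus_eq {T' : NumericalType n} (hT : T.IsContraction T') : T'.genus = T.genus := by
  have key : 2 * (T'.genus - 1) = 2 * (T.genus - 1) := by
    rw [two_genus, two_genus, Fin.sum_univ_castSucc]
    have hl : T.m l * (2 * T.w l * (T.g l - 1) - T.a l l)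
        = -∑ i : Fin n, T.m i.castSucc * T.a i.castSucc l := by
      have h2 := row_split T l
      rw [h.2] at h2
      have e : ∑ i : Fin n, T.m i.castSucc * T.a i.castSucc l
          = ∑ i : Fin n, T.a l i.castSucc * T.m i.castSucc :=
        sum_congr rfl fun i _ => by rw [← T.symm.apply l i.castSucc]; ring
      rw [h.1, h.2, e]; linarith
    rw [hl, ← sub_eq_add_neg, ← sum_sub_distrib]
    refine sum_congr rfl fun i _ => ?_
    obtain ⟨hm, ha, hw, hg⟩ := id hT
    rw [hm, ha, hg, show T'.w i = ctrW T i from hw i]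
    show T.m i.castSucc * (2 * ctrW T i * (ratio T i * (T.g i.castSucc - 1) + 1 + _ - 1)
      - ctrA T i i) = _
    rw [ctrA_eq h]
    have hc := corr_eq T i
    have hr := (ratio_eq T i).1
    set E := (T.a i.castSucc l ^ 2 - T.w l * T.a i.castSucc l) / (2 * ctrW T i * T.w l)
    have : 2 * ctrW T i * (ratio T i * (T.g i.castSucc - 1) + 1 + E - 1)
        = 2 * T.w i.castSucc * (T.g i.castSucc - 1) + T.a i.castSucc l * (pdiv T i - 1) := by
      rw [hr, ← hc]; ring
    rw [this]; ring
  omega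

theorem exists_pic_map {T' : NumericalType n} (hT : T.IsContraction T') :
    ∃ f : T.Pic →+ T'.Pic, Function.Injective f ∧ ∀ y : T'.Pic, ∃ x : T.Pic, 2 • y = f x := by
  obtain ⟨hm, ha, hw, -⟩ := id hT
  have hw' : ∀ i, T'.w i = ctrW T i := IsContraction.w_eq hT
  have hP : ∀ (i j : Fin n), ctrW T i * T'.picMatrix i j = ctrA T i j := fun i j => by
    rw [NumericalType.picMatrix, hw' i, ha i j]
    exact Int.mul_ediv_cancel' ((ctrW_dvd T i).trans (by
      show T.w i.castSucc ∣ ctrA T i j
      rw [ctrA_eq h]; exact dvd_add (T.w_dvd _ _) ((T.w_dvd _ _).mul_right _)))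
  have hQ : ∀ i j, T.w i * T.picMatrix i j = T.a i j := fun i j => Int.mul_ediv_cancel' (T.w_dvd i j)
  have hu : ∀ i : Fin n, ctrW T i * (T.a i.castSucc l / ctrW T i) = T.a i.castSucc l := fun i =>
    Int.mul_ediv_cancel' ((ctrW_dvd T i).trans (T.w_dvd _ _))
  let F : (Fin (n + 1) → ℤ) →ₗ[ℤ] (Fin n → ℤ) :=
    { toFun := fun x i => ratio T i * x i.castSucc + T.a i.castSucc l / ctrW T i * x l
      map_add' := fun x y => by funext i; simp only [Pi.add_apply]; ring
      map_smul' := fun c x => by funext i; simp only [Pi.smul_apply, smul_eq_mul, RingHom.id_apply]; ring }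
  have hF : ∀ (x : Fin (n + 1) → ℤ) (i : Fin n),
      ctrW T i * F x i = T.w i.castSucc * x i.castSucc + T.a i.castSucc l * x l := fun x i => by
    show ctrW T i * (_ + _) = _
    rw [mul_add, ← mul_assoc, ← mul_assoc, ← (ratio_eq T i).1, hu]
  have hPv : ∀ (y : Fin n → ℤ) (i : Fin n),
      ctrW T i * T'.picMatrix.mulVec y i = ∑ j, ctrA T i j * y j := fun y i => by
    simp only [Matrix.mulVec, dotProduct, mul_sum, ← mul_assoc, hP]
  have hQv : ∀ (y : Fin (n + 1) → ℤ) (i : Fin (n + 1)),
      T.w i * T.picMatrix.mulVec y i = ∑ j : Fin n, T.a i j.castSucc * y j.castSucc + T.a i l * y l :=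
    fun y i => by
      simp only [Matrix.mulVec, dotProduct, Fin.sum_univ_castSucc, mul_add, mul_sum, ← mul_assoc, hQ]
  have hL : ∀ (y : Fin (n + 1) → ℤ),
      T.picMatrix.mulVec y l = ∑ j : Fin n, pdiv T j * y j.castSucc - y l := fun y => by
    apply mul_left_cancel₀ (T.w_pos l).ne'
    rw [hQv, h.2, mul_sub, mul_sum]
    have : ∑ j : Fin n, T.a l j.castSucc * y j.castSucc
        = ∑ j : Fin n, T.w l * (pdiv T j * y j.castSucc) :=
      sum_congr rfl fun j _ => by rw [← mul_assoc, ← a_eq_p, ← T.symm.apply l j.castSucc]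
    rw [this]; ring
  have hcomm : ∀ y : Fin (n + 1) → ℤ,
      F (T.picMatrix.mulVec y) = T'.picMatrix.mulVec fun j => y j.castSucc := fun y => by
    funext i
    apply mul_left_cancel₀ (ctrW_pos T i).ne'
    rw [hF, hPv, hQv, hL, mul_sub, mul_sum]
    simp only [ctrA_eq h, add_mul, sum_add_distrib, mul_assoc]
    ring
  have hle : LinearMap.range (Matrix.mulVecLin T.picMatrix)
      ≤ (LinearMap.range (Matrix.mulVecLin T'.picMatrix)).comap F := by
    rintro _ ⟨y, rfl⟩
    exact ⟨fun j => y j.castSucc, (hcomm y).symm⟩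
  let f := Submodule.mapQ _ _ F hle
  refine ⟨f.toAddMonoidHom, ?_, fun y => ?_⟩
  · rw [injective_iff_map_eq_zero]
    intro a ha'
    obtain ⟨x, rfl⟩ := Submodule.Quotient.mk_surjective _ a
    have ha'' : F x ∈ LinearMap.range (Matrix.mulVecLin T'.picMatrix) :=
      (Submodule.Quotient.mk_eq_zero _).1 ha'
    obtain ⟨y', hy'⟩ := ha''
    rw [Matrix.mulVecLin_apply] at hy'
    let y : Fin (n + 1) → ℤ := Fin.snoc y' (∑ j : Fin n, pdiv T j * y' j - x l)
    have hy1 : (fun j : Fin n => y j.castSucc) = y' := funext fun j => Fin.snoc_castSucc _ _ _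
    have hxl : T.picMatrix.mulVec y l = x l := by
      rw [hL]; simp [y]
    rw [Submodule.Quotient.mk_eq_zero]
    refine ⟨y, funext fun i => ?_⟩
    rw [Matrix.mulVecLin_apply]
    rcases Fin.eq_castSucc_or_eq_last i with ⟨i, rfl⟩ | rfl
    · apply mul_left_cancel₀ (T.w_pos i.castSucc).ne'
      have e := hcomm y
      rw [hy1, hy'] at e
      have e1 := hF (T.picMatrix.mulVec y) i
      have e2 := hF x i
      rw [congrFun e i, hxl] at e1
      linarith
    · exact hxl
  · obtain ⟨y, rfl⟩ := Submodule.Quotient.mk_surjective _ y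
    let x : Fin (n + 1) → ℤ :=
      Fin.snoc (fun i => if ratio T i = 1 then 2 * y i else y i) 0
    refine ⟨Submodule.Quotient.mk x, ?_⟩
    show _ = Submodule.Quotient.mk (F x)
    rw [← Submodule.Quotient.mk_smul]
    congr 1
    funext i
    show (2 : ℕ) • y i = ratio T i * x i.castSucc + _ * x l
    rcases (ratio_eq T i).2 with h' | h' <;> simp [x, h']

end Groth.Agent.NumType
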