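import Groth.Agent.NumType.Contract
import Groth.Agent.S2178
import Mathlib.RingTheory.PrincipalIdealDomain
import Mathlib.LinearAlgebra.FreeModule.PID
import Mathlib.GroupTheory.Perm.Basic

/-! The Picard group in genus at most zero. -/

namespace Groth.Agent.NumType

open Models Finset Matrix

variable {n : ℕ}

/-- Reindex a numerical type. -/
def reindex (T : NumericalType n) (σ : Equiv.Perm (Fin n)) : NumericalType n where
  m i := T.m (σ i)
  a i j := T.a (σ i) (σ j)
  w i := T.w (σ i)
  g i := T.g (σ i)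
  pos := T.pos
  m_pos i := T.m_pos _
  w_pos i := T.w_pos _
  g_nonneg i := T.g_nonneg _
  symm := by ext i j; exact T.symm.apply (σ i) (σ j)
  offDiag_nonneg i j h := T.offDiag_nonneg _ _ fun e => h (σ.injective e)
  connected I hI hI' := by
    obtain ⟨i, hi, j, hj, h⟩ := T.connected (I.map σ.toEmbedding) hI.map (fun e => hI' (by
      ext a
      have := e.symm ▸ mem_univ (σ a)
      simpa using this))
    simp only [mem_map, Equiv.coe_toEmbedding, not_exists, not_and] at hi hj
    obtain ⟨i, hi, rfl⟩ := hi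
    exact ⟨i, hi, σ.symm j, fun h' => hj _ h' (σ.apply_symm_apply j), by rwa [σ.apply_symm_apply]⟩
  mulVec_m := by
    funext i
    show ∑ j, T.a (σ i) (σ j) * T.m (σ j) = 0
    rw [Equiv.sum_comp σ fun j => T.a (σ i) j * T.m j]
    exact congrFun T.mulVec_m (σ i)
  w_dvd i j := T.w_dvd _ _

theorem genus_reindex (T : NumericalType n) (σ : Equiv.Perm (Fin n)) :
    (reindex T σ).genus = T.genus := by
  simp only [NumericalType.genus, reindex]
  rw [Equiv.sum_comp σ fun i => T.m i * T.w i * (T.g i - 1), Equiv.sum_comp σ fun i => T.m i * T.a i i]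

/-- The Picard group is invariant under reindexing. -/
noncomputable def picReindex (T : NumericalType n) (σ : Equiv.Perm (Fin n)) :
    T.Pic ≃ₗ[ℤ] (reindex T σ).Pic :=
  Submodule.Quotient.equiv _ _ (LinearEquiv.funCongrLeft ℤ ℤ σ) (by
    have key : ∀ z : Fin n → ℤ, LinearEquiv.funCongrLeft ℤ ℤ σ (T.picMatrix.mulVec z)
        = (reindex T σ).picMatrix.mulVec (LinearEquiv.funCongrLeft ℤ ℤ σ z) := by
      intro z; funext i
      exact (Equiv.sum_comp σ fun j => T.picMatrix (σ i) j * z j).symm
    ext y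
    simp only [Submodule.mem_map, LinearMap.mem_range, Matrix.mulVecLin_apply, LinearEquiv.coe_coe]
    constructor
    · rintro ⟨x, ⟨z, rfl⟩, rfl⟩
      exact ⟨_, (key z).symm⟩
    · rintro ⟨z, rfl⟩
      obtain ⟨z', rfl⟩ := (LinearEquiv.funCongrLeft ℤ ℤ σ).surjective z
      exact ⟨_, ⟨z', rfl⟩, key z'⟩)

theorem pic_equiv_int : ∀ {n : ℕ} (T : NumericalType n), T.genus ≤ 0 → Nonempty (T.Pic ≃+ ℤ)
  | 0, T, _ => absurd T.pos (lt_irrefl 0)
  | 1, T, _ => by
    obtain ⟨ha, -⟩ := singleton_vals T
    have hbot : LinearMap.range (Matrix.mulVecLin T.picMatrix) = ⊥ := by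
      rw [eq_bot_iff]
      rintro _ ⟨z, rfl⟩
      rw [Submodule.mem_bot, Matrix.mulVecLin_apply]
      funext i
      obtain rfl : i = 0 := Subsingleton.elim _ _
      simp [Matrix.mulVec, dotProduct, NumericalType.picMatrix, ha]
    exact ⟨((Submodule.quotEquivOfEqBot _ hbot).trans (LinearEquiv.funUnique (Fin 1) ℤ ℤ)).toAddEquiv⟩
  | n + 2, T, hg => by
    obtain ⟨i, hi⟩ : ∃ i, T.IsMinusOne i := by
      by_contra hc
      push Not at hc
      have := one_le_genus T hc (by omega)
      omega
    let σ := Equiv.swap i (Fin.last (n + 1))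
    have hl : (reindex T σ).IsMinusOne (Fin.last (n + 1)) := by
      show T.g (σ _) = 0 ∧ T.a (σ _) (σ _) = -T.w (σ _)
      simp only [σ, Equiv.swap_apply_right]; exact hi
    have hT := isContraction_contraction hl
    obtain ⟨e'⟩ := pic_equiv_int (contraction hl) (by
      rw [genus_eq hl hT, genus_reindex]; exact hg)
    obtain ⟨f, hf, -⟩ := exists_pic_map hl hT
    let g : T.Pic →ₗ[ℤ] ℤ :=
      ((e'.toAddMonoidHom.comp f).comp (picReindex T σ).toLinearMap.toAddMonoidHom).toIntLinearMap
    have hg' : Function.Injective g := fun a b h =>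
      (picReindex T σ).injective (hf (e'.injective h))
    have : Module.finrank ℤ T.Pic = 1 := S2178.result T
    have : Module.IsTorsionFree ℤ T.Pic := Function.Injective.moduleIsTorsionFree g hg' (map_smul g)
    have : Module.Free ℤ T.Pic := inferInstance
    have h1 : Fintype.card (Module.Free.ChooseBasisIndex ℤ T.Pic) = 1 := by
      rw [← Module.finrank_eq_card_chooseBasisIndex]; assumption
    let _ : Unique (Module.Free.ChooseBasisIndex ℤ T.Pic) :=
      (Fintype.card_eq_one_iff_nonempty_unique.1 h1).some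
    exact ⟨((Module.Free.chooseBasis ℤ T.Pic).equivFun.trans
      (LinearEquiv.funUnique (Module.Free.ChooseBasisIndex ℤ T.Pic) ℤ ℤ)).toAddEquiv⟩

end Groth.Agent.NumType
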