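import Groth.Agent.NumType.PicInt
import Groth.Agent.NumType.Genus
import Groth.Agent.S2184
import Groth.Agent.S2180
import Groth.Agent.S2177
import Groth.Agent.S7318
import Mathlib

/-! The `ℓ`-torsion of the Picard group of a numerical type. -/

namespace Groth.Agent.NumType

open Models Finset Matrix

set_option autoImplicit false

variable {n : ℕ} (T : NumericalType n)

section Graph

variable (F : Type) [Field F]

abbrev Edge : Type := {p : Fin n × Fin n // p.1 < p.2 ∧ 0 < T.a p.1 p.2}

theorem card_edge : Fintype.card (Edge T) = T.edgeCount := by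
  rw [Fintype.card_subtype]; rfl

/-- The incidence matrix of the dual graph. -/
def inc : Matrix (Edge T) (Fin n) F :=
  fun p i => (if p.1.1 = i then 1 else 0) - (if p.1.2 = i then 1 else 0)

theorem inc_mulVec (u : Fin n → F) (p : Edge T) :
    (inc T F).mulVec u p = u p.1.1 - u p.1.2 := by
  simp [Matrix.mulVec, dotProduct, inc, sub_mul, Finset.sum_sub_distrib, ite_mul]

theorem eq_const_of_inc (u : Fin n → F) (h : (inc T F).mulVec u = 0) (i j : Fin n) :
    u i = u j := by
  classical
  by_contra hne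
  obtain ⟨p, hp, q, hq, hpq⟩ := T.connected (univ.filter fun k => u k = u i) ⟨i, by simp⟩
    (fun he => hne (by
      have := he.symm ▸ mem_univ j
      simp only [mem_filter, mem_univ, true_and] at this
      exact this.symm))
  simp only [mem_filter, mem_univ, true_and] at hp hq
  have hne' : p ≠ q := fun e => hq (e ▸ hp)
  have hpos : 0 < T.a p q := lt_of_le_of_ne (T.offDiag_nonneg p q hne') (Ne.symm hpq)
  rcases lt_or_gt_of_ne hne' with hlt | hlt
  · have := congrFun h ⟨(p, q), hlt, hpos⟩
    rw [inc_mulVec, Pi.zero_apply, sub_eq_zero] at this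
    exact hq (this.symm.trans hp)
  · have := congrFun h ⟨(q, p), hlt, by rw [T.symm.apply]; exact hpos⟩
    rw [inc_mulVec, Pi.zero_apply, sub_eq_zero] at this
    exact hq (this.trans hp)

theorem finrank_ker_inc_transpose :
    (Module.finrank F (LinearMap.ker (inc T F).transpose.mulVecLin) : ℤ) ≤ T.topGenus := by
  have h1 := LinearMap.finrank_range_add_finrank_ker (inc T F).transpose.mulVecLin
  have h2 := LinearMap.finrank_range_add_finrank_ker (inc T F).mulVecLin
  rw [← Matrix.rank, Module.finrank_fintype_fun_eq_card, card_edge, Matrix.rank_transpose] at h1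
  rw [← Matrix.rank, Module.finrank_fintype_fun_eq_card, Fintype.card_fin] at h2
  have h3 : Module.finrank F (LinearMap.ker (inc T F).mulVecLin) ≤ 1 := by
    refine le_trans (Submodule.finrank_mono (t := Submodule.span F {fun _ : Fin n => (1 : F)}) ?_) ?_
    · intro u hu
      rw [LinearMap.mem_ker, Matrix.mulVecLin_apply] at hu
      refine Submodule.mem_span_singleton.2 ⟨u ⟨0, T.pos⟩, ?_⟩
      funext i
      simp [eq_const_of_inc T F u hu i ⟨0, T.pos⟩]
    · exact (finrank_span_le_card _).trans (by simp)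
  rw [NumericalType.topGenus]
  omega

/-- The intersection matrix over `F`. -/
def aF : Matrix (Fin n) (Fin n) F := fun i j => (T.a i j : F)

theorem finrank_ker_aF (hm : ∀ i, (T.m i : F) ≠ 0)
    (he : ∀ p : Edge T, (T.a p.1.1 p.1.2 : F) ≠ 0) :
    (Module.finrank F (LinearMap.ker (aF T F).mulVecLin) : ℤ) ≤ 1 + T.topGenus := by
  classical
  let L : (Fin n → F) →ₗ[F] (Edge T → F) :=
    { toFun := fun v p => (T.m p.1.1 : F) * T.m p.1.2 * T.a p.1.1 p.1.2 *
        (v p.1.1 / T.m p.1.1 - v p.1.2 / T.m p.1.2)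
      map_add' := fun v v' => by funext p; simp only [Pi.add_apply, add_div]; ring
      map_smul' := fun c v => by
        funext p; simp only [Pi.smul_apply, smul_eq_mul, RingHom.id_apply, mul_div_assoc]; ring }
  let K := LinearMap.ker (aF T F).mulVecLin
  have hflow : ∀ v ∈ K, L v ∈ LinearMap.ker (inc T F).transpose.mulVecLin := by
    intro v hv
    rw [LinearMap.mem_ker, Matrix.mulVecLin_apply] at hv ⊢
    funext i
    set u : Fin n → F := fun k => v k / T.m k with hu
    let G : Fin n × Fin n → F := fun p => (T.m p.1 : F) * T.m p.2 * T.a p.1 p.2 * (u p.1 - u p.2)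
    have hG : ∀ x y, G (x, y) = - G (y, x) := fun x y => by
      simp only [G, T.symm.apply x y]; ring
    have hG0 : ∀ x, G (x, x) = 0 := fun x => by simp [G]
    have hrow : ∑ j, G (i, j) = 0 := by
      have h1 : ∑ j, (T.a i j : F) * v j = 0 := congrFun hv i
      have h2 : ∑ j, (T.a i j : F) * T.m j = 0 := by
        have h := congrFun T.mulVec_m i
        have h' : (((∑ j, T.a i j * T.m j : ℤ)) : F) = 0 := by
          rw [show (∑ j, T.a i j * T.m j) = 0 from h, Int.cast_zero]
        rwa [Int.cast_sum, Finset.sum_congr rfl fun j _ => Int.cast_mul _ _] at h'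
      calc ∑ j, G (i, j)
          = T.m i * u i * ∑ j, (T.a i j : F) * T.m j - T.m i * ∑ j, (T.a i j : F) * v j := by
            rw [Finset.mul_sum, Finset.mul_sum, ← Finset.sum_sub_distrib]
            refine Finset.sum_congr rfl fun j _ => ?_
            have := hm j
            have := hm i
            simp only [G, hu]
            field_simp
        _ = 0 := by rw [h1, h2, mul_zero, mul_zero, sub_zero]
    have hsupp : ∀ f : Fin n × Fin n → F, ∑ p : Edge T, f p.1 =
        ∑ x, ∑ y, if x < y ∧ 0 < T.a x y then f (x, y) else 0 := by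
      intro f
      rw [← Finset.sum_subtype (univ.filter fun p : Fin n × Fin n => p.1 < p.2 ∧ 0 < T.a p.1 p.2)
        (by simp) f, Finset.sum_filter, ← Finset.univ_product_univ, Finset.sum_product]
    have hif : ∀ x y, x < y → (if x < y ∧ 0 < T.a x y then G (x, y) else 0) = G (x, y) := by
      intro x y hxy
      split_ifs with h
      · rfl
      · have : T.a x y = 0 := le_antisymm (not_lt.1 fun h' => h ⟨hxy, h'⟩)
          (T.offDiag_nonneg x y hxy.ne)
        simp [G, this]
    show ∑ p : Edge T, (inc T F) p i * L v p = 0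
    have hLG : ∀ p : Edge T, (inc T F) p i * L v p =
        (if p.1.1 = i then G p.1 else 0) - (if p.1.2 = i then G p.1 else 0) := fun p => by
      show _ * ((T.m p.1.1 : F) * T.m p.1.2 * T.a p.1.1 p.1.2 * (u p.1.1 - u p.1.2)) = _
      simp [inc, G, sub_mul, ite_mul]
    rw [Finset.sum_congr rfl fun p _ => hLG p, Finset.sum_sub_distrib,
      hsupp fun q => if q.1 = i then G q else 0, hsupp fun q => if q.2 = i then G q else 0]
    have hA : (∑ x, ∑ y, if x < y ∧ 0 < T.a x y then (if x = i then G (x, y) else 0) else 0) =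
        ∑ y, if i < y then G (i, y) else 0 := by
      rw [Finset.sum_eq_single i (fun x _ hx => by simp [hx]) (by simp)]
      refine Finset.sum_congr rfl fun y _ => ?_
      rw [if_pos rfl]
      by_cases hy : i < y
      · rw [hif i y hy, if_pos hy]
      · simp [hy]
    have hB : (∑ x, ∑ y, if x < y ∧ 0 < T.a x y then (if y = i then G (x, y) else 0) else 0) =
        ∑ x, if x < i then G (x, i) else 0 := by
      refine Finset.sum_congr rfl fun x _ => ?_
      rw [Finset.sum_eq_single i (fun y _ hy => by simp [hy]) (by simp), if_pos rfl]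
      by_cases hx : x < i
      · rw [hif x i hx, if_pos hx]
      · simp [hx]
    rw [hA, hB, ← Finset.sum_sub_distrib]
    refine (Finset.sum_congr rfl fun y _ => ?_).trans hrow
    rcases lt_trichotomy i y with h | h | h
    · simp [h, h.not_gt]
    · subst h; simp [hG0]
    · simp [h, h.not_gt, hG i y]
  let L' : K →ₗ[F] LinearMap.ker (inc T F).transpose.mulVecLin := L.restrict hflow
  have h1 := LinearMap.finrank_range_add_finrank_ker L'
  have h2 : Module.finrank F (LinearMap.range L') ≤
      Module.finrank F (LinearMap.ker (inc T F).transpose.mulVecLin) := Submodule.finrank_le _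
  have h3 : Module.finrank F (LinearMap.ker L') ≤ 1 := by
    rw [← Submodule.finrank_map_subtype_eq K (LinearMap.ker L')]
    refine le_trans (Submodule.finrank_mono
      (t := Submodule.span F {fun k : Fin n => (T.m k : F)}) ?_) ?_
    · rintro _ ⟨⟨v, hv⟩, hv', rfl⟩
      have h0 : (inc T F).mulVec (fun k => v k / T.m k) = 0 := by
        funext p
        rw [inc_mulVec, Pi.zero_apply]
        have : L v p = 0 := congrFun (congrArg Subtype.val hv') p
        exact (mul_eq_zero.1 this).resolve_left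
          (mul_ne_zero (mul_ne_zero (hm _) (hm _)) (he p))
      refine Submodule.mem_span_singleton.2 ⟨v ⟨0, T.pos⟩ / T.m ⟨0, T.pos⟩, ?_⟩
      funext k
      have := eq_const_of_inc T F _ h0 k ⟨0, T.pos⟩
      simp only [Pi.smul_apply, smul_eq_mul, Submodule.subtype_apply]
      rw [← this, div_mul_cancel₀ _ (hm k)]
    · exact (finrank_span_le_card _).trans (by simp)
  have h4 := finrank_ker_inc_transpose T F
  have h5 : (Module.finrank F K : ℤ) ≤ 1 + T.topGenus := by omega
  exact h5

end Graph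

variable (ℓ : ℕ)

/-- The `ℓ`-torsion of the Picard group. -/
abbrev picTor : Type := Submodule.torsionBy ℤ T.Pic (ℓ : ℤ)

theorem finite_picTor_and_card_le [hℓ : Fact ℓ.Prime]
    (hm : ∀ i, (T.m i : ZMod ℓ) ≠ 0)
    (he : ∀ p : Edge T, (T.a p.1.1 p.1.2 : ZMod ℓ) ≠ 0) :
    Finite (picTor T ℓ) ∧ Nat.card (picTor T ℓ) ≤ ℓ ^ T.topGenus.toNat := by
  classical
  have hex : ∀ x : picTor T ℓ, ∃ q : (Fin n → ℤ) × (Fin n → ℤ),
      Submodule.Quotient.mk q.1 = (x : T.Pic) ∧ T.picMatrix.mulVec q.2 = (ℓ : ℤ) • q.1 := by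
    intro x
    obtain ⟨z, hz⟩ := Submodule.Quotient.mk_surjective _ (x : T.Pic)
    have hx := (Submodule.mem_torsionBy_iff _ _).1 x.2
    rw [← hz, ← Submodule.Quotient.mk_smul, Submodule.Quotient.mk_eq_zero] at hx
    obtain ⟨y, hy⟩ := hx
    exact ⟨(z, y), hz, hy⟩
  choose q hq1 hq2 using hex
  let K := LinearMap.ker (aF T (ZMod ℓ)).mulVecLin
  let mbar : Fin n → ZMod ℓ := fun k => (T.m k : ZMod ℓ)
  let red : (Fin n → ℤ) → Fin n → ZMod ℓ := fun y k => (y k : ZMod ℓ)
  have hmK : mbar ∈ K := by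
    rw [LinearMap.mem_ker, Matrix.mulVecLin_apply]
    funext i
    show ∑ j, (T.a i j : ZMod ℓ) * (T.m j : ZMod ℓ) = 0
    have h := congrArg (fun z : ℤ => (z : ZMod ℓ)) (congrFun T.mulVec_m i)
    simpa [Matrix.mulVec, dotProduct, Int.cast_sum] using h
  have hP : ∀ (y : Fin n → ℤ) (i : Fin n),
      T.w i * T.picMatrix.mulVec y i = ∑ j, T.a i j * y j := fun y i => by
    simp only [Matrix.mulVec, dotProduct, Finset.mul_sum, ← mul_assoc]
    refine Finset.sum_congr rfl fun j _ => ?_
    rw [NumericalType.picMatrix, Int.mul_ediv_cancel' (T.w_dvd i j)]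
  have hqK : ∀ x, red (q x).2 ∈ K := by
    intro x
    rw [LinearMap.mem_ker, Matrix.mulVecLin_apply]
    funext i
    show ∑ j, (T.a i j : ZMod ℓ) * ((q x).2 j : ZMod ℓ) = 0
    have h := congrArg (fun z : ℤ => (z : ZMod ℓ)) (hP (q x).2 i)
    simp only [hq2, Pi.smul_apply, smul_eq_mul, Int.cast_mul, Int.cast_sum, Int.cast_natCast,
      ZMod.natCast_self, zero_mul, mul_zero] at h
    exact h.symm
  let Φ : picTor T ℓ × ZMod ℓ → K := fun xc => ⟨red (q xc.1).2 + xc.2 • mbar,
    K.add_mem (hqK _) (K.smul_mem _ hmK)⟩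
  have hPm : T.picMatrix.mulVec T.m = 0 := by
    funext i
    have := hP T.m i
    have h0 : ∑ j, T.a i j * T.m j = 0 := congrFun T.mulVec_m i
    rw [h0] at this
    exact (mul_eq_zero.1 this).resolve_left (T.w_pos i).ne'
  have hΦ : Function.Injective Φ := by
    rintro ⟨x, c⟩ ⟨x', c'⟩ h
    have h' : ∀ k, ((q x).2 k : ZMod ℓ) + c * T.m k = ((q x').2 k : ZMod ℓ) + c' * T.m k :=
      fun k => congrFun (congrArg Subtype.val h) k
    obtain ⟨d, hd⟩ := ZMod.intCast_surjective (c - c')
    have hdvd : ∀ k, (ℓ : ℤ) ∣ ((q x).2 k - (q x').2 k + d * T.m k) := fun k => by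
      rw [← ZMod.intCast_zmod_eq_zero_iff_dvd]
      push_cast
      linear_combination h' k + (T.m k : ZMod ℓ) * hd
    choose z hz using hdvd
    have hmain : (ℓ : ℤ) • ((q x).1 - (q x').1) = (ℓ : ℤ) • T.picMatrix.mulVec z := by
      rw [smul_sub, ← hq2, ← hq2, ← Matrix.mulVec_smul,
        show (ℓ : ℤ) • z = (q x).2 - (q x').2 + d • T.m from funext fun k => (hz k).symm,
        Matrix.mulVec_add, Matrix.mulVec_sub, Matrix.mulVec_smul, hPm, smul_zero, add_zero]
    have hℓ0 : (ℓ : ℤ) ≠ 0 := by exact_mod_cast hℓ.out.ne_zero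
    have hxx : x = x' := Subtype.ext (by
      rw [← hq1, ← hq1, Submodule.Quotient.eq]
      exact ⟨z, (smul_right_injective _ hℓ0 hmain).symm⟩)
    subst hxx
    have := h' ⟨0, T.pos⟩
    simp only [add_right_inj, mul_eq_mul_right_iff, hm, or_false] at this
    rw [this]
  have : Finite (picTor T ℓ × ZMod ℓ) := Finite.of_injective Φ hΦ
  have : Finite (picTor T ℓ) := Finite.prod_left (ZMod ℓ)
  refine ⟨this, Nat.le_of_mul_le_mul_right ?_ hℓ.out.pos⟩
  have hcard := Nat.card_le_card_of_injective Φ hΦ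
  rw [Nat.card_prod, Nat.card_zmod, Module.natCard_eq_pow_finrank (K := ZMod ℓ) (V := K),
    Nat.card_zmod] at hcard
  refine hcard.trans ?_
  rw [← pow_succ]
  refine Nat.pow_le_pow_right hℓ.out.pos ?_
  have h1 := finrank_ker_aF T (ZMod ℓ) hm he
  have h2 := S7318.result T
  show Module.finrank (ZMod ℓ) (LinearMap.ker (aF T (ZMod ℓ)).mulVecLin) ≤ _
  omega

theorem picTor_of_singleton (T : NumericalType 1) (hℓ : ℓ ≠ 0) :
    Finite (picTor T ℓ) ∧ Nat.card (picTor T ℓ) = 1 := by
  obtain ⟨ha, -⟩ := singleton_vals T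
  have hbot : LinearMap.range (Matrix.mulVecLin T.picMatrix) = ⊥ := by
    rw [eq_bot_iff]
    rintro _ ⟨z, rfl⟩
    rw [Submodule.mem_bot, Matrix.mulVecLin_apply]
    funext i
    obtain rfl : i = 0 := Subsingleton.elim _ _
    simp [Matrix.mulVec, dotProduct, NumericalType.picMatrix, ha]
  let e : T.Pic ≃ₗ[ℤ] (Fin 1 → ℤ) := Submodule.quotEquivOfEqBot _ hbot
  have : Subsingleton (picTor T ℓ) := ⟨fun x y => Subtype.ext (e.injective (by
    have h : ∀ z : picTor T ℓ, e z = 0 := fun z => by
      have h1 := congrArg e ((Submodule.mem_torsionBy_iff _ _).1 z.2)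
      rw [map_smul, map_zero] at h1
      exact (smul_eq_zero.1 h1).resolve_left (by exact_mod_cast hℓ)
    rw [h x, h y]))⟩
  exact ⟨inferInstance, Nat.card_of_subsingleton (0 : picTor T ℓ)⟩

theorem picTor_bound_minimal [hℓ : Fact ℓ.Prime] (hg : 2 ≤ T.genus) (hmin : T.IsMinimal)
    (hlarge : 768 * T.genus < ℓ) :
    Finite (picTor T ℓ) ∧ Nat.card (picTor T ℓ) ≤ ℓ ^ T.topGenus.toNat ∧
      T.topGenus ≤ T.genus := by
  rcases Nat.eq_or_lt_of_le (Nat.one_le_iff_ne_zero.2 T.pos.ne') with hn1 | hn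
  · subst hn1
    obtain ⟨h1, h2⟩ := picTor_of_singleton ℓ T hℓ.out.ne_zero
    refine ⟨h1, by rw [h2]; exact Nat.one_le_pow _ _ hℓ.out.pos, ?_⟩
    have h0 : T.edgeCount = 0 := by
      rw [NumericalType.edgeCount, Finset.card_eq_zero, Finset.filter_eq_empty_iff]
      rintro ⟨x, y⟩ - ⟨hxy, -⟩
      omega
    rw [NumericalType.topGenus, h0]
    omega
  have hb := fun i j => S2184.result T hmin hg i j
  have hsmall : ∀ z : ℤ, 0 < z → z ≤ 768 * T.genus → (z : ZMod ℓ) ≠ 0 := by
    intro z hz hz' h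
    rw [ZMod.intCast_zmod_eq_zero_iff_dvd] at h
    have := Int.le_of_dvd hz h
    omega
  have hm : ∀ i, (T.m i : ZMod ℓ) ≠ 0 := fun i => hsmall _ (T.m_pos i) (by
    have h1 := hb i i
    have h2 : 1 ≤ |T.a i i| := Int.one_le_abs (diag_neg T hn i).ne
    nlinarith [T.m_pos i])
  have he : ∀ p : Edge T, (T.a p.1.1 p.1.2 : ZMod ℓ) ≠ 0 := fun p => hsmall _ p.2.2 (by
    have h1 := hb p.1.1 p.1.2
    rw [abs_of_pos p.2.2] at h1
    have := T.m_pos p.1.1
    nlinarith [p.2.2])
  exact ⟨(finite_picTor_and_card_le T ℓ hm he).1, (finite_picTor_and_card_le T ℓ hm he).2,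
    S2177.result T hmin hn⟩

theorem picTor_bound [hℓ : Fact ℓ.Prime] :
    ∀ {n : ℕ} (T : NumericalType n), 2 ≤ T.genus → 768 * T.genus < ℓ →
      Finite (picTor T ℓ) ∧ Nat.card (picTor T ℓ) ≤ ℓ ^ T.genus.toNat
  | 0, T, _, _ => absurd T.pos (lt_irrefl 0)
  | 1, T, _, _ => by
    obtain ⟨h1, h2⟩ := picTor_of_singleton ℓ T hℓ.out.ne_zero
    exact ⟨h1, by rw [h2]; exact Nat.one_le_pow _ _ hℓ.out.pos⟩
  | n + 2, T, hg, hl => by
    by_cases hmin : T.IsMinimal
    · obtain ⟨h1, h2, h3⟩ := picTor_bound_minimal T ℓ hg hmin hl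
      exact ⟨h1, h2.trans (Nat.pow_le_pow_right hℓ.out.pos (Int.toNat_le_toNat h3))⟩
    obtain ⟨i, hi⟩ : ∃ i, T.IsMinusOne i := by
      simpa [NumericalType.IsMinimal] using hmin
    let σ := Equiv.swap i (Fin.last (n + 1))
    have hlast : (reindex T σ).IsMinusOne (Fin.last (n + 1)) := by
      show T.g (σ _) = 0 ∧ T.a (σ _) (σ _) = -T.w (σ _)
      simp only [σ, Equiv.swap_apply_right]; exact hi
    have hgen : (contraction hlast).genus = T.genus := by
      rw [genus_eq hlast (isContraction_contraction hlast), genus_reindex]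
    obtain ⟨h1, h2⟩ := picTor_bound (contraction hlast) (hgen ▸ hg) (hgen ▸ hl)
    obtain ⟨f, hf, -⟩ := exists_pic_map hlast (isContraction_contraction hlast)
    let g : T.Pic →+ (contraction hlast).Pic :=
      f.comp (picReindex T σ).toLinearMap.toAddMonoidHom
    have hginj : Function.Injective g := hf.comp (picReindex T σ).injective
    let gt : picTor T ℓ → picTor (contraction hlast) ℓ := fun x => ⟨g x,
      (Submodule.mem_torsionBy_iff _ _).2 (by
        rw [← map_zsmul, (Submodule.mem_torsionBy_iff _ _).1 x.2, map_zero])⟩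
    have hgt : Function.Injective gt := fun x y h =>
      Subtype.ext (hginj (congrArg Subtype.val h))
    exact ⟨Finite.of_injective gt hgt,
      (Nat.card_le_card_of_injective gt hgt).trans (hgen ▸ h2)⟩

end Groth.Agent.NumType
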